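import Groth.Agent.NormalLib.NormalRing
import Groth.Agent.CommAlgDim.CM
import Groth.Agent.CommAlgDim.GlobalDim

/-! Regular local rings are normal. -/

set_option autoImplicit false

universe u

open IsLocalRing CommAlgDim RingTheory.Sequence

namespace NormalLib

theorem le_depth_self_of_isRegularLocalRing (A : Type u) [CommRing A] [IsRegularLocalRing A] :
    ringKrullDim A ≤ ((LocCoh.depth A A : ℕ∞) : WithBot ℕ∞) := by
  obtain ⟨rs, hrs, hd⟩ := isCM_of_isRegularLocalRing A
  rw [hd, ← WithBot.coe_natCast, WithBot.coe_le_coe, le_depth_iff]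
  refine ⟨rs, rfl, fun r hr => (le_maximalIdeal (J := Ideal.ofList rs) fun h => hrs.top_ne_smul ?_) (Ideal.subset_span hr), hrs.toIsWeaklyRegular⟩
  rw [h, Submodule.top_smul]

theorem hasSk_of_isRegular (A : Type u) [CommRing A] [IsNoetherianRing A]
    (h : ∀ (p : Ideal A) [p.IsPrime], IsRegularLocalRing (Localization.AtPrime p)) (k : ℕ) :
    LocCoh.HasSk k A A := fun p _ => by
  have := h p
  refine (min_le_right _ _).trans ?_
  rw [SMTLib.supportDim_localized_self, ← IsLocalization.AtPrime.ringKrullDim_eq_height p (Localization.AtPrime p)]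
  refine (le_depth_self_of_isRegularLocalRing (Localization.AtPrime p)).trans (le_of_eq ?_)
  rw [depth_congr ((IsLocalizedModule.iso p.primeCompl (Algebra.linearMap A (Localization.AtPrime p))).extendScalarsOfIsLocalization
    p.primeCompl (Localization.AtPrime p))]

theorem isIntegrallyClosed_of_isRegularLocalRing (A : Type u) [CommRing A] [IsRegularLocalRing A] :
    IsIntegrallyClosed A := by
  have hreg : ∀ (p : Ideal A) [p.IsPrime], IsRegularLocalRing (Localization.AtPrime p) := fun p _ =>
    isRegularLocalRing_localization A p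
  have h := serre_normal_iff.2 ⟨fun p _ _ => hreg p, hasSk_of_isRegular A hreg 2⟩
  exact (isIntegrallyClosed_iff (FractionRing A)).2 fun {x} hx => h.exists_eq_of_isIntegral _ hx

end NormalLib
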