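import Groth.Agent.AdicRingLib.Completion
import Groth.Agent.CompleteLib.CompletionHom
import Groth.Agent.CompleteLib.Basic
import Mathlib.RingTheory.AdicCompletion.AsTensorProduct
import Mathlib.RingTheory.TensorProduct.Finite

/-! The completion of a finite algebra as a tensor product with the completion of the base. -/

set_option autoImplicit false

universe u

open scoped TensorProduct

namespace NormalLib

variable {A : Type u} [CommRing A] [IsNoetherianRing A] (I : Ideal A) (C : Type u) [CommRing C] [Algebra A C]
  [Module.Finite A C]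

theorem isAdicComplete_tensor :
    IsAdicComplete (I.map (algebraMap A (AdicCompletion I A ⊗[A] C))) (AdicCompletion I A ⊗[A] C) := by
  have := AdicRingLib.isNoetherianRing_adicCompletion I
  have := AdicRingLib.isAdicComplete_map (C := A) (IsNoetherian.noetherian I)
  have h : IsAdicComplete (I.map (algebraMap A (AdicCompletion I A))) (AdicCompletion I A ⊗[A] C) :=
    CompleteLib.isAdicComplete_of_finite
  rw [IsScalarTower.algebraMap_eq A (AdicCompletion I A) (AdicCompletion I A ⊗[A] C), ← Ideal.map_map]
  exact (IsAdicComplete.map_algebraMap_iff _ _).2 h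

/-- The completion of a finite algebra is the base change of the completion. -/
theorem exists_ringEquiv_completion_tensor :
    ∃ e : AdicCompletion (I.map (algebraMap A C)) C ≃+* AdicCompletion I A ⊗[A] C,
      ∀ c : C, e (algebraMap C _ c) = 1 ⊗ₜ c := by
  let K := I.map (algebraMap A C)
  let T := AdicCompletion I A ⊗[A] C
  let J : Ideal T := I.map (algebraMap A T)
  let H := AdicCompletion K C
  have := isAdicComplete_tensor I C
  have hK : K.FG := Ideal.FG.map (IsNoetherian.noetherian I) _
  let J' : Ideal H := K.map (algebraMap C H)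
  have : IsAdicComplete J' H := AdicRingLib.isAdicComplete_map hK
  let inc : C →+* T := (Algebra.TensorProduct.includeRight : C →ₐ[A] T).toRingHom
  have h1 : K.map inc ≤ J := by
    rw [Ideal.map_map]
    exact le_of_eq (congrArg (Ideal.map · I) (Algebra.TensorProduct.includeRight : C →ₐ[A] T).comp_algebraMap)
  let ψ : H →+* T := CompleteLib.completionLift K J inc h1
  have hψ : ∀ c, ψ (algebraMap C H c) = inc c := CompleteLib.completionLift_algebraMap K J inc h1
  have h2 : I.map (algebraMap A H) ≤ J' := by
    rw [IsScalarTower.algebraMap_eq A C H, ← Ideal.map_map]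
  let f₀ : AdicCompletion I A →+* H := CompleteLib.completionLift I J' (algebraMap A H) h2
  let f : AdicCompletion I A →ₐ[A] H := { f₀ with
    commutes' := CompleteLib.completionLift_algebraMap I J' (algebraMap A H) h2 }
  let φ : T →ₐ[A] H := Algebra.TensorProduct.lift f (IsScalarTower.toAlgHom A C H) fun _ _ => Commute.all _ _
  have hφinc : ∀ c, φ (inc c) = algebraMap C H c := fun c => by
    show φ (1 ⊗ₜ c) = _
    rw [Algebra.TensorProduct.lift_tmul, map_one, one_mul]
    rfl
  have hφψ : ∀ x, φ (ψ x) = x := by
    have h := CompleteLib.completion_hom_ext K J' hK (φ.toRingHom.comp ψ) (RingHom.id H) ?_ fun c => ?_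
    · exact fun x => RingHom.congr_fun h x
    · refine le_of_eq (congrArg (Ideal.map · K) (RingHom.ext fun c => ?_))
      show φ (ψ (algebraMap C H c)) = _
      rw [hψ, hφinc]
    · show φ (ψ (algebraMap C H c)) = _
      rw [hψ, hφinc]
      rfl
  have hψA : ∀ a, ψ (algebraMap A H a) = algebraMap A T a := fun a => by
    rw [IsScalarTower.algebraMap_apply A C H, hψ]
    exact (Algebra.TensorProduct.includeRight : C →ₐ[A] T).commutes a
  let incL : AdicCompletion I A →+* T := Algebra.TensorProduct.includeLeftRingHom
  have hψf : ∀ z, ψ (f z) = incL z := by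
    have h := CompleteLib.completion_hom_ext I J (IsNoetherian.noetherian I) (ψ.comp f₀) incL ?_ fun a => ?_
    · exact fun x => RingHom.congr_fun h x
    · refine le_of_eq (congrArg (Ideal.map · I) (RingHom.ext fun a => ?_))
      show ψ (f (algebraMap A _ a)) = _
      rw [AlgHom.commutes, hψA]
    · show ψ (f (algebraMap A _ a)) = _
      rw [AlgHom.commutes, hψA]
      rfl
  have hψφ : ∀ t, ψ (φ t) = t := by
    intro t
    induction t using TensorProduct.induction_on with
    | zero => rw [map_zero, map_zero]
    | tmul z c =>
      rw [Algebra.TensorProduct.lift_tmul, map_mul, hψf, show (IsScalarTower.toAlgHom A C H) c = algebraMap C H c from rfl,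
        hψ]
      show (z ⊗ₜ[A] (1 : C)) * (1 ⊗ₜ[A] c) = _
      rw [Algebra.TensorProduct.tmul_mul_tmul, mul_one, one_mul]
    | add x y hx hy => rw [map_add, map_add, hx, hy]
  exact ⟨RingEquiv.ofRingHom ψ φ.toRingHom (RingHom.ext hψφ) (RingHom.ext hφψ), hψ⟩

end NormalLib
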