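import Groth.Agent.NormalLib.PowerSeriesN2
import Groth.Agent.CohenLib.Normalization

/-! Complete noetherian local rings are Nagata. -/

set_option autoImplicit false

universe u

open IsLocalRing

namespace NormalLib

theorem isAdicComplete_quotient_local {R : Type u} [CommRing R] [IsLocalRing R] [IsNoetherianRing R]
    [IsAdicComplete (maximalIdeal R) R] (p : Ideal R) [IsLocalRing (R ⧸ p)] :
    IsAdicComplete (maximalIdeal (R ⧸ p)) (R ⧸ p) := by
  have hm : (maximalIdeal R).map (algebraMap R (R ⧸ p)) = maximalIdeal (R ⧸ p) := by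
    refine IsLocalRing.eq_maximalIdeal (Ideal.IsMaximal.map_of_surjective_of_ker_le Ideal.Quotient.mk_surjective ?_)
    rw [Ideal.mk_ker]
    exact IsLocalRing.le_maximalIdeal fun h => by
      have : Subsingleton (R ⧸ p) := Ideal.Quotient.subsingleton_iff.2 h
      exact false_of_nontrivial_of_subsingleton (R ⧸ p)
  rw [← hm]
  exact (IsAdicComplete.map_algebraMap_iff _ _).2 CompleteLib.isAdicComplete_of_finite

theorem isN2_of_isCohenRing {Λ : Type u} [CommRing Λ] [IsDomain Λ] (h : CAlg.IsCohenRing Λ) :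
    CAlg.IsN2 Λ := by
  obtain ⟨_, hdvr, hc, p, hp, hm⟩ := h
  have : (Ideal.span ({(p : Λ)} : Set Λ)).IsPrime := hm ▸ (maximalIdeal.isMaximal Λ).isPrime
  have : IsAdicComplete (Ideal.span ({(p : Λ)} : Set Λ)) Λ := hm ▸ hc
  refine isN2_of_complete_of_quotient_isN2 (p : Λ) (isN2_of_isField ?_)
  exact (Ideal.Quotient.maximal_ideal_iff_isField_quotient _).1 (hm ▸ maximalIdeal.isMaximal Λ)

theorem isN2_of_isAdicComplete_local (R : Type u) [CommRing R] [IsDomain R] [IsLocalRing R]
    [IsNoetherianRing R] [IsAdicComplete (maximalIdeal R) R] : CAlg.IsN2 R := by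
  obtain ⟨Λ, _, n, f, hΛ, hf, hfin, -⟩ := CohenLib.exists_finite_injective R
  let _ : Algebra (MvPowerSeries (Fin n) Λ) R := f.toAlgebra
  have : Module.Finite (MvPowerSeries (Fin n) Λ) R := hfin
  rcases hΛ with hF | hC
  · let _ : Field Λ := hF.toField
    have : IsDomain (MvPowerSeries (Fin n) Λ) := NoZeroDivisors.to_isDomain _
    exact isN2_of_finite_injective hf (mvPowerSeries_isN2 (isN2_of_isField hF) n).2
  · obtain ⟨_, hdvr, -⟩ := id hC
    have : IsDomain (MvPowerSeries (Fin n) Λ) := NoZeroDivisors.to_isDomain _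
    exact isN2_of_finite_injective hf (mvPowerSeries_isN2 (isN2_of_isCohenRing hC) n).2

theorem isNagata_of_isAdicComplete_local (R : Type u) [CommRing R] [IsLocalRing R]
    [IsNoetherianRing R] [IsAdicComplete (maximalIdeal R) R] : CAlg.IsNagata R := by
  refine ⟨inferInstance, fun p _ => ?_⟩
  have : IsLocalRing (R ⧸ p) := IsLocalRing.of_surjective' (Ideal.Quotient.mk _) Ideal.Quotient.mk_surjective
  have := isAdicComplete_quotient_local p
  exact isN2_of_isAdicComplete_local (R ⧸ p)

end NormalLib
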