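import Groth.Agent.SMTLib.S2Height
import Groth.Agent.CommAlgDim.Regular
import Mathlib.RingTheory.DiscreteValuationRing.TFAE
import Mathlib.RingTheory.IntegralClosure.IntegrallyClosed
import Mathlib.RingTheory.Localization.Integral
import Mathlib.RingTheory.LocalProperties.Reduced
import Mathlib.RingTheory.HopkinsLevitzki

/-! Serre's criteria for reducedness and normality. -/

set_option autoImplicit false

universe u v

open IsLocalRing CommAlgDim
open scoped nonZeroDivisors

namespace NormalLib

section Domain

variable {A : Type u} [CommRing A] [IsDomain A] [IsNoetherianRing A]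

theorem isDVR_of_maximalIdeal_mem_associatedPrimes [IsLocalRing A] [IsIntegrallyClosed A] {a : A} (ha : a ≠ 0)
    (hass : maximalIdeal A ∈ associatedPrimes A (A ⧸ Ideal.span {a})) : IsDiscreteValuationRing A := by
  obtain ⟨-, y, hy⟩ := isAssociatedPrime_iff.1 (AssociatedPrimes.mem_iff.1 hass)
  obtain ⟨b, rfl⟩ := Ideal.Quotient.mk_surjective y
  have hmem : ∀ z, z ∈ maximalIdeal A ↔ z * b ∈ Ideal.span {a} := fun z => by
    rw [hy, Submodule.mem_colon_singleton, Submodule.mem_bot, Algebra.smul_def,
      Ideal.Quotient.algebraMap_eq, ← map_mul, Ideal.Quotient.eq_zero_iff_mem]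
  have hdvd : ∀ z, z ∈ maximalIdeal A → a ∣ z * b := fun z hz =>
    Ideal.mem_span_singleton.1 ((hmem z).1 hz)
  choose! c hc using hdvd
  have hab : ¬ a ∣ b := fun h => (maximalIdeal.isMaximal A).ne_top ((Ideal.eq_top_iff_one _).2
    ((hmem 1).2 (by rw [one_mul]; exact Ideal.mem_span_singleton.2 h)))
  by_cases hall : ∀ z ∈ maximalIdeal A, c z ∈ maximalIdeal A
  · exfalso
    by_cases hm : maximalIdeal A = ⊥
    · have hfield : IsField A := isField_iff_maximalIdeal_eq.2 hm
      let _ := hfield.toField
      exact hab ((IsUnit.mk0 a ha).dvd)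
    let K := FractionRing A
    let x : K := algebraMap A K b / algebraMap A K a
    have ha' : algebraMap A K a ≠ 0 := by simpa using ha
    have hxm : ∀ z ∈ maximalIdeal A, x * algebraMap A K z = algebraMap A K (c z) := fun z hz => by
      rw [div_mul_eq_mul_div, div_eq_iff ha', ← map_mul, ← map_mul]
      congr 1
      rw [mul_comm b z, hc z hz, mul_comm]
    have hint : IsIntegral A x := by
      refine isIntegral_of_smul_mem_submodule (M := K)
        (Submodule.map (Algebra.linearMap A K) (maximalIdeal A)) ?_ ((IsNoetherian.noetherian _).map _) x ?_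
      · intro h0
        refine hm ((Submodule.eq_bot_iff _).2 fun z hz => IsFractionRing.injective A K ?_)
        have hmem := Submodule.mem_map_of_mem (f := Algebra.linearMap A K) hz
        rw [h0, Submodule.mem_bot] at hmem
        rw [map_zero]
        exact hmem
      · rintro _ ⟨z, hz, rfl⟩
        refine ⟨c z, hall z hz, ?_⟩
        show algebraMap A K (c z) = x • algebraMap A K z
        rw [smul_eq_mul, hxm z hz]
    obtain ⟨d, hd⟩ := IsIntegrallyClosed.isIntegral_iff.1 hint
    refine hab ⟨d, IsFractionRing.injective A K ?_⟩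
    rw [map_mul, hd, mul_div_cancel₀ _ ha']
  · push Not at hall
    obtain ⟨t, ht, htu⟩ := hall
    have hu : IsUnit (c t) := not_not.1 htu
    obtain ⟨u, hu⟩ := hu
    have htb : t * b = a * u := by rw [hu]; exact hc t ht
    have hprin : maximalIdeal A = Ideal.span {t} := by
      refine le_antisymm (fun z hz => ?_) ((Ideal.span_singleton_le_iff_mem _).2 ht)
      refine Ideal.mem_span_singleton'.2 ⟨c z * ↑u⁻¹, ?_⟩
      have hb0 : b ≠ 0 := fun e => hab (e ▸ dvd_zero a)
      have hcz : z * b = a * c z := hc z hz
      apply mul_right_cancel₀ hb0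
      calc c z * ↑u⁻¹ * t * b = c z * ↑u⁻¹ * (t * b) := by ring
        _ = a * c z * ((↑u⁻¹ : A) * ↑u) := by rw [htb]; ring
        _ = z * b := by rw [Units.inv_mul, mul_one, hcz]
    have hnf : ¬ IsField A := by
      intro hF
      let _ := hF.toField
      exact hab (IsUnit.mk0 a ha).dvd
    have hiff : (maximalIdeal A).IsPrincipal ↔ IsDiscreteValuationRing A := (IsDiscreteValuationRing.TFAE A hnf).out 4 0
    exact hiff.1 ⟨⟨t, hprin⟩⟩

theorem ringKrullDim_eq_one_of_maximalIdeal_mem_associatedPrimes [IsLocalRing A] [IsIntegrallyClosed A] {a : A}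
    (ha : a ≠ 0) (hass : maximalIdeal A ∈ associatedPrimes A (A ⧸ Ideal.span {a})) : ringKrullDim A = 1 :=
  have := isDVR_of_maximalIdeal_mem_associatedPrimes ha hass
  IsDiscreteValuationRing.ringKrullDim_eq_one A

/-- Associated primes of a principal ideal in a Noetherian normal domain have height one. -/
theorem height_eq_one_of_mem_associatedPrimes [IsIntegrallyClosed A] {a : A} (ha : a ≠ 0) {P : Ideal A}
    (hP : P ∈ associatedPrimes A (A ⧸ Ideal.span {a})) : P.height = 1 := by
  have := hP.isPrime
  let AP := Localization.AtPrime P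
  have : IsDomain AP := IsLocalization.isDomain_localization P.primeCompl_le_nonZeroDivisors
  have : IsIntegrallyClosed AP := isIntegrallyClosed_of_isLocalization AP P.primeCompl P.primeCompl_le_nonZeroDivisors
  let f : (A ⧸ Ideal.span {a}) →ₗ[A] (AP ⧸ Ideal.span {algebraMap A AP a}) :=
    Submodule.liftQ _ ((Ideal.Quotient.mkₐ A (Ideal.span {algebraMap A AP a})).toLinearMap ∘ₗ Algebra.linearMap A AP)
      (fun z hz => by
        obtain ⟨w, rfl⟩ := Ideal.mem_span_singleton'.1 hz
        rw [LinearMap.mem_ker]
        show Ideal.Quotient.mk _ (algebraMap A AP (w * a)) = 0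
        rw [Ideal.Quotient.eq_zero_iff_mem, map_mul]
        exact Ideal.mul_mem_left _ _ (Ideal.mem_span_singleton_self _))
  obtain ⟨-, y, hy⟩ := isAssociatedPrime_iff.1 (AssociatedPrimes.mem_iff.1 hP)
  obtain ⟨b, rfl⟩ := Ideal.Quotient.mk_surjective y
  have hmem : ∀ z, z ∈ P ↔ z * b ∈ Ideal.span {a} := fun z => by
    rw [hy, Submodule.mem_colon_singleton, Submodule.mem_bot, Algebra.smul_def,
      Ideal.Quotient.algebraMap_eq, ← map_mul, Ideal.Quotient.eq_zero_iff_mem]
  have hass : maximalIdeal AP ∈ associatedPrimes AP (AP ⧸ Ideal.span {algebraMap A AP a}) := by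
    refine AssociatedPrimes.mem_iff.2 (isAssociatedPrime_iff.2
      ⟨(maximalIdeal.isMaximal AP).isPrime, Ideal.Quotient.mk _ (algebraMap A AP b), ?_⟩)
    refine Ideal.ext fun z => ?_
    rw [Submodule.mem_colon_singleton, Submodule.mem_bot]
    show z ∈ maximalIdeal AP ↔ Ideal.Quotient.mk _ (z * algebraMap A AP b) = 0
    rw [Ideal.Quotient.eq_zero_iff_mem]
    obtain ⟨z, s, rfl⟩ := IsLocalization.exists_mk'_eq P.primeCompl z
    have hs : IsUnit (algebraMap A AP s) := IsLocalization.map_units AP s
    rw [IsLocalization.AtPrime.mk'_mem_maximal_iff AP P z s]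
    constructor
    · intro hz
      obtain ⟨w, hw⟩ := Ideal.mem_span_singleton'.1 ((hmem z).1 hz)
      refine Ideal.mem_span_singleton'.2 ⟨IsLocalization.mk' AP w s, ?_⟩
      rw [mul_comm (IsLocalization.mk' AP z s), IsLocalization.mul_mk'_eq_mk'_of_mul,
        mul_comm (IsLocalization.mk' AP w s), IsLocalization.mul_mk'_eq_mk'_of_mul, mul_comm a w, hw, mul_comm]
    · intro hz
      obtain ⟨w, hw⟩ := Ideal.mem_span_singleton'.1 hz
      obtain ⟨w, t, rfl⟩ := IsLocalization.exists_mk'_eq P.primeCompl w
      have h1 : algebraMap A AP (w * a * s) = algebraMap A AP (z * b * t) := by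
        have e1 := IsLocalization.mk'_spec AP w t
        have e2 := IsLocalization.mk'_spec AP z s
        simp only [map_mul, ← e1, ← e2]
        linear_combination (algebraMap A AP s * algebraMap A AP t) * hw
      have h2 := IsLocalization.injective AP P.primeCompl_le_nonZeroDivisors h1
      have h3 : z * t ∈ P := (hmem _).2 (Ideal.mem_span_singleton'.2 ⟨w * s, by rw [mul_right_comm, h2]; ring⟩)
      exact (Ideal.IsPrime.mem_or_mem ‹_› h3).resolve_right t.2
  have h1 := ringKrullDim_eq_one_of_maximalIdeal_mem_associatedPrimes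
    (by simpa using (IsLocalization.injective AP P.primeCompl_le_nonZeroDivisors).ne ha) hass
  rw [IsLocalization.AtPrime.ringKrullDim_eq_height P] at h1
  exact_mod_cast h1

end Domain

variable {R : Type u} [CommRing R] [IsNoetherianRing R]

/-- Membership in the localisation can be tested at associated primes of the denominator. -/
theorem dvd_of_forall_associatedPrimes {a b : R}
    (h : ∀ P ∈ associatedPrimes R (R ⧸ Ideal.span {a}), ∃ s, s ∉ P ∧ a ∣ s * b) : a ∣ b := by
  by_contra hab
  have hb : (Ideal.Quotient.mk (Ideal.span {a}) b) ≠ 0 := by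
    rwa [Ne, Ideal.Quotient.eq_zero_iff_mem, Ideal.mem_span_singleton]
  obtain ⟨P, hP, hle⟩ := exists_le_isAssociatedPrime_of_isNoetherianRing R _ hb
  obtain ⟨s, hs, hsb⟩ := h P hP
  refine hs (hle ?_)
  rw [Submodule.mem_colon_singleton, Submodule.mem_bot, Algebra.smul_def, Ideal.Quotient.algebraMap_eq,
    ← map_mul, Ideal.Quotient.eq_zero_iff_mem, Ideal.mem_span_singleton]
  exact hsb

theorem mem_associatedPrimes_quotient_of_le {a : R} {P : Ideal R}
    (hP : P ∈ associatedPrimes R (R ⧸ Ideal.span {a})) : a ∈ P := by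
  obtain ⟨-, y, hy⟩ := isAssociatedPrime_iff.1 (AssociatedPrimes.mem_iff.1 hP)
  obtain ⟨b, rfl⟩ := Ideal.Quotient.mk_surjective y
  rw [hy, Submodule.mem_colon_singleton, Submodule.mem_bot, Algebra.smul_def,
    Ideal.Quotient.algebraMap_eq, ← map_mul, Ideal.Quotient.eq_zero_iff_mem]
  exact Ideal.mul_mem_right _ _ (Ideal.mem_span_singleton_self a)

/-- A Noetherian ring with `R₀` and `S₁` is reduced. -/
theorem isReduced_of_R0_S1 (h0 : LocCoh.HasRk 0 R) (h1 : LocCoh.HasSk 1 R R) : IsReduced R := by
  refine ⟨fun x hx => ?_⟩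
  by_contra hx0
  obtain ⟨P, hP, hle⟩ := exists_le_isAssociatedPrime_of_isNoetherianRing R x hx0
  have := hP.isPrime
  have hht : P.height = 0 := by
    by_contra hne
    have h := h1 P
    rw [SMTLib.supportDim_localized_self, ← WithBot.coe_natCast, ← WithBot.coe_min, WithBot.coe_le_coe,
      min_eq_left (by rw [Nat.cast_one]; exact Order.one_le_iff_pos.2 (pos_iff_ne_zero.2 hne)), le_depth_iff] at h
    exact maximalIdeal_notMem_of_hasSeqIn_one h hP
  have := h0 P hht.le
  have := CommAlgDim.isDomain_of_isRegularLocalRing (Localization.AtPrime P)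
  have h2 : algebraMap R (Localization.AtPrime P) x = 0 := (hx.map _).eq_zero
  obtain ⟨s, hs⟩ := (IsLocalization.map_eq_zero_iff P.primeCompl (Localization.AtPrime P) x).1 h2
  refine s.2 (hle ?_)
  rw [Submodule.mem_colon_singleton, Submodule.mem_bot]
  exact hs

theorem isRegularLocalRing_of_isField (B : Type u) [CommRing B] [IsLocalRing B] (h : IsField B) :
    IsRegularLocalRing B := by
  have : IsNoetherianRing B := by
    let _ := h.toField
    infer_instance
  refine IsRegularLocalRing.of_spanFinrank_maximalIdeal_le (R := B) ?_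
  rw [isField_iff_maximalIdeal_eq.1 h, Submodule.spanFinrank_bot]
  exact ringKrullDim_nonneg_of_nontrivial

theorem R0_of_isReduced [IsReduced R] : LocCoh.HasRk 0 R := fun p hp hh => by
  have : Ring.KrullDimLE 0 (Localization.AtPrime p) := by
    rw [Ring.krullDimLE_iff, IsLocalization.AtPrime.ringKrullDim_eq_height p]
    exact_mod_cast hh
  have := isArtinianRing_iff_krullDimLE_zero.2 this
  exact isRegularLocalRing_of_isField _ (IsArtinianRing.isField_of_isReduced_of_isLocalRing _)

theorem S1_of_isReduced [IsReduced R] : LocCoh.HasSk 1 R R := fun p hp => by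
  rw [SMTLib.supportDim_localized_self]
  by_cases h0 : p.height = 0
  · refine (min_le_right _ _).trans ?_
    rw [h0]
    exact WithBot.coe_le_coe.2 zero_le
  refine (min_le_left _ _).trans ?_
  rw [← WithBot.coe_natCast, WithBot.coe_le_coe, le_depth_iff]
  refine HasSeqIn.localization le_rfl ((hasSeqIn_one_iff p).2 fun Q hQ hle => h0 ?_)
  have := hQ.isPrime
  have hmin : Q ∈ minimalPrimes R := by
    obtain ⟨-, y, hy⟩ := isAssociatedPrime_iff.1 (AssociatedPrimes.mem_iff.1 hQ)
    obtain ⟨q, hq, hqQ⟩ := Ideal.exists_minimalPrimes_le (I := (⊥ : Ideal R)) (J := Q) bot_le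
    suffices Q = q by rw [this]; exact hq
    refine le_antisymm (fun z hz => ?_) hqQ
    by_contra hzq
    have := hq.1.1
    -- `y` lies in every minimal prime not containing `z`; it is killed by `Q`
    have hzy : z * y = 0 := by
      rw [hy, Submodule.mem_colon_singleton, Submodule.mem_bot] at hz
      exact hz
    have hyq : y ∈ q := (Ideal.IsPrime.mem_or_mem ‹_› (hzy ▸ q.zero_mem)).resolve_left hzq
    have hy0 : y = 0 := by
      have : IsNilpotent y := by
        refine (mem_nilradical).1 ?_
        rw [nilradical_eq_sInf]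
        refine Submodule.mem_sInf.2 fun J hJ => ?_
        have : Ideal.IsPrime J := hJ
        by_contra hyJ
        have hQJ : Q ≤ J := fun w hw => by
          have hwy : w * y = 0 := by
            rw [hy, Submodule.mem_colon_singleton, Submodule.mem_bot] at hw
            exact hw
          exact (Ideal.IsPrime.mem_or_mem ‹_› (hwy ▸ J.zero_mem)).resolve_right hyJ
        exact hyJ (hQJ (hqQ hyq))
      exact this.eq_zero
    exact ‹Q.IsPrime›.ne_top ((Ideal.eq_top_iff_one _).2 (by
      rw [hy, Submodule.mem_colon_singleton, hy0, smul_zero]; exact zero_mem _))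
  have hQ0 : Q.height = 0 := by
    rw [Ideal.height_eq_zero_iff]; exact hmin
  have hQp : Q = p := by
    refine le_antisymm ?_ hle
    exact (hmin.2 ⟨‹p.IsPrime›, bot_le⟩ hle)
  rw [← hQp, hQ0]

/-- Elements of a total ring of fractions integral over a ring with `R₁` and `S₂` lie in the ring. -/
theorem exists_eq_of_isIntegral_of_R1_S2 (h1 : LocCoh.HasRk 1 R) (h2 : LocCoh.HasSk 2 R R)
    (Q : Type v) [CommRing Q] [Algebra R Q] [IsLocalization R⁰ Q] {x : Q} (hx : IsIntegral R x) :
    ∃ y, algebraMap R Q y = x := by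
  obtain ⟨⟨b, a⟩, hab⟩ := IsLocalization.surj R⁰ x
  have hreg : IsSMulRegular R (a : R) := IsSMulRegular.of_right_eq_zero_of_smul fun z hz =>
    (mem_nonZeroDivisors_iff_right.1 a.2) z (by rwa [smul_eq_mul, mul_comm] at hz)
  suffices (a : R) ∣ b by
    obtain ⟨y, hy⟩ := this
    refine ⟨y, (IsLocalization.map_units Q a).mul_left_injective ?_⟩
    show algebraMap R Q y * algebraMap R Q a = x * algebraMap R Q a
    rw [hab, ← map_mul, hy, mul_comm]
  refine dvd_of_forall_associatedPrimes fun P hP => ?_
  have := hP.isPrime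
  have haP := mem_associatedPrimes_quotient_of_le hP
  have hht : P.height ≤ 1 := by
    by_contra hlt
    rw [not_le] at hlt
    have hh : (2 : ℕ∞) ≤ P.height := Order.add_one_le_of_lt hlt
    have := h2 P
    rw [SMTLib.supportDim_localized_self, ← WithBot.coe_natCast, ← WithBot.coe_min, WithBot.coe_le_coe,
      min_eq_left (show ((2 : ℕ) : ℕ∞) ≤ P.height from hh), le_depth_iff] at this
    have hq := HasSeqIn.quotSMulTop
      ((IsLocalization.AtPrime.to_map_mem_maximal_iff (Localization.AtPrime P) P (a : R)).2 haP)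
      (isSMulRegular_localization P hreg) this
    obtain ⟨e⟩ := exists_quot_equiv (M := R) P (a : R)
    have hP' : P ∈ associatedPrimes R (QuotSMulTop (a : R) R) := by
      rwa [← LinearEquiv.AssociatedPrimes.eq (SMTLib.quotSpanEquiv (a : R))]
    exact maximalIdeal_notMem_of_hasSeqIn_one (HasSeqIn.congr e.symm hq) hP'
  have := h1 P hht
  let RP := Localization.AtPrime P
  have : IsDomain RP := CommAlgDim.isDomain_of_isRegularLocalRing RP
  have hIC : IsIntegrallyClosed RP := by
    by_cases hF : IsField RP
    · let _ := hF.toField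
      infer_instance
    · have hd : ringKrullDim RP = 1 := by
        refine le_antisymm ?_ ?_
        · rw [IsLocalization.AtPrime.ringKrullDim_eq_height P]; exact_mod_cast hht
        · rw [← not_lt]
          intro hlt
          have : Ring.KrullDimLE 0 RP := Ring.krullDimLE_iff.2 (by
            rcases h : ringKrullDim RP with _ | m
            · exact bot_le
            · rw [h] at hlt
              have : m < 1 := WithBot.coe_lt_coe.1 hlt
              rw [ENat.lt_one_iff_eq_zero.1 this]
              rfl)
          have := isArtinianRing_iff_krullDimLE_zero.2 this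
          exact hF (IsArtinianRing.isField_of_isReduced_of_isLocalRing _)
      have : IsDiscreteValuationRing RP := by
        rw [← finrank_CotangentSpace_eq_one_iff]
        have := (IsRegularLocalRing.iff_finrank_cotangentSpace RP).1 inferInstance
        rw [hd] at this
        exact_mod_cast this
      infer_instance
  let F := FractionRing RP
  have ha : algebraMap R RP a ≠ 0 := fun h => by
    obtain ⟨s, hs⟩ := (IsLocalization.map_eq_zero_iff P.primeCompl RP (a : R)).1 h
    have : (s : R) = 0 := mem_nonZeroDivisors_iff_right.1 a.2 _ hs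
    exact s.2 (this ▸ P.zero_mem)
  have haF : ∀ c : R⁰, IsUnit (algebraMap R F c) := fun c => by
    rw [IsScalarTower.algebraMap_apply R RP F, isUnit_iff_ne_zero]
    refine (map_ne_zero_iff _ (IsFractionRing.injective RP F)).2 fun h => ?_
    obtain ⟨s, hs⟩ := (IsLocalization.map_eq_zero_iff P.primeCompl RP (c : R)).1 h
    have : (s : R) = 0 := mem_nonZeroDivisors_iff_right.1 c.2 _ hs
    exact s.2 (this ▸ P.zero_mem)
  let ψ : Q →ₐ[R] F := IsLocalization.liftAlgHom (M := R⁰) (f := Algebra.ofId R F) haF
  have hint : IsIntegral RP (ψ x) := (hx.map ψ).tower_top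
  obtain ⟨d, hd⟩ := IsIntegrallyClosed.isIntegral_iff.1 hint
  obtain ⟨d, t, rfl⟩ := IsLocalization.exists_mk'_eq P.primeCompl d
  have h3 : algebraMap R RP ((a : R) * d) = algebraMap R RP (t * b) := by
    refine IsFractionRing.injective RP F ?_
    have h4 := congrArg ψ hab
    rw [map_mul, AlgHom.commutes, AlgHom.commutes, ← hd, IsScalarTower.algebraMap_apply R RP F,
      IsScalarTower.algebraMap_apply R RP F, ← map_mul] at h4
    rw [map_mul, map_mul, ← IsLocalization.mk'_spec RP d t, map_mul, map_mul]
    simp only [map_mul] at h4 ⊢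
    linear_combination (algebraMap RP F (algebraMap R RP t)) * h4
  obtain ⟨s, hs⟩ := IsLocalization.exists_of_eq (M := P.primeCompl) h3
  exact ⟨s * t, (s * t).2, ⟨s * d, by linear_combination (-1 : R) * hs⟩⟩

end NormalLib
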