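import Groth.Prelude.Def_Found
import Groth.Agent.NormalLib.Serre
import Mathlib.RingTheory.Localization.Integral
import Mathlib.RingTheory.DedekindDomain.IntegralClosure
import Mathlib.FieldTheory.PurelyInseparable.Basic
import Mathlib.FieldTheory.Galois.Basic
import Mathlib.FieldTheory.Normal.Closure
import Mathlib.RingTheory.Spectrum.Prime.Topology

/-! N-1 and N-2 rings. -/

set_option autoImplicit false

universe u v w

open scoped nonZeroDivisors

namespace NormalLib

/-- Finiteness of integral closures descends along embeddings. -/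
theorem finite_integralClosure_of_injective {R : Type u} [CommRing R] [IsNoetherianRing R] {L : Type v} {M : Type w}
    [CommRing L] [CommRing M] [Algebra R L] [Algebra R M] (f : L →ₐ[R] M) (hf : Function.Injective f)
    [Module.Finite R (integralClosure R M)] : Module.Finite R (integralClosure R L) := by
  let g : integralClosure R L →ₗ[R] integralClosure R M :=
    { toFun := fun x => ⟨f x, x.2.map f⟩
      map_add' := fun x y => Subtype.ext (map_add f _ _)
      map_smul' := fun a x => Subtype.ext (map_smul f a _) }
  exact Module.Finite.of_injective g fun x y h => Subtype.ext (hf (congrArg Subtype.val h))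

/-- Finiteness of the integral closure passes to finite separable extensions. -/
theorem finite_integralClosure_of_isSeparable {R : Type u} [CommRing R] [IsNoetherianRing R] [IsDomain R]
    (K : Type v) [Field K] [Algebra R K] [IsFractionRing R K] [Module.Finite R (integralClosure R K)]
    (F : Type v) [Field F] [Algebra K F] [Algebra R F] [IsScalarTower R K F] [FiniteDimensional K F]
    [Module.Finite R (integralClosure R F)] (L : Type v) [Field L] [Algebra F L] [Algebra R L] [IsScalarTower R F L]
    [FiniteDimensional F L] [Algebra.IsSeparable F L] : Module.Finite R (integralClosure R L) := by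
  let R' := integralClosure R F
  have : Algebra.IsAlgebraic K F := Algebra.IsAlgebraic.of_finite K F
  have : IsFractionRing R' F := integralClosure.isFractionRing_of_finite_extension K F
  have : IsIntegrallyClosed R' := integralClosure.isIntegrallyClosedOfFiniteExtension K
  have : IsNoetherianRing R' := isNoetherianRing_iff.2 (isNoetherian_of_tower R (isNoetherian_of_isNoetherianRing_of_finite R R'))
  have : Module.Finite R' (integralClosure R' L) := IsIntegralClosure.finite R' F L (integralClosure R' L)
  have : Module.Finite R (integralClosure R' L) := Module.Finite.trans R' _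
  let g : integralClosure R L →ₗ[R] integralClosure R' L :=
    { toFun := fun x => ⟨x, x.2.tower_top⟩
      map_add' := fun _ _ => rfl
      map_smul' := fun a x => Subtype.ext (by simp) }
  exact Module.Finite.of_injective g fun x y h => Subtype.ext (congrArg (fun z : integralClosure R' L => (z : L)) h)

section PurelyInseparable

variable (K : Type u) [Field K] (E : Type u) [Field E] [Algebra K E] [FiniteDimensional K E] [Normal K E]

theorem isPurelyInseparable_fixedField : IsPurelyInseparable K (IntermediateField.fixedField (⊤ : Subgroup (E ≃ₐ[K] E))) := by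
  refine ⟨inferInstance, fun x hsep => ?_⟩
  have hmin : minpoly K (x : E) = minpoly K x := minpoly.algHom_eq (IntermediateField.val _) Subtype.val_injective x
  rw [IsSeparable] at hsep
  rw [← hmin] at hsep
  have hsplit : ((minpoly K (x : E)).map (algebraMap K E)).Splits := Normal.splits inferInstance _
  have hcard := Polynomial.card_rootSet_eq_natDegree hsep hsplit
  have hroots : ∀ y ∈ (minpoly K (x : E)).rootSet E, y = x := by
    intro y hy
    obtain ⟨σ, hσ⟩ := minpoly.exists_algEquiv_of_root' (K := K) (L := E) (x := y) (y := (x : E))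
      (Algebra.IsAlgebraic.isAlgebraic _) (Polynomial.mem_rootSet.1 hy).2
    rw [← hσ]
    exact x.2 ⟨σ, Subgroup.mem_top σ⟩
  have hdeg : (minpoly K (x : E)).natDegree ≤ 1 := by
    rw [← hcard, Fintype.card_le_one_iff]
    exact fun a b => Subtype.ext ((hroots a a.2).trans (hroots b b.2).symm)
  have hint : IsIntegral K (x : E) := Algebra.IsIntegral.isIntegral _
  have hdeg1 : (minpoly K (x : E)).degree = 1 := by
    rw [Polynomial.degree_eq_natDegree (minpoly.ne_zero hint), le_antisymm hdeg (minpoly.natDegree_pos hint)]
    rfl
  obtain ⟨a, ha⟩ := minpoly.degree_eq_one_iff.1 hdeg1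
  exact ⟨a, Subtype.ext ha⟩

theorem isSeparable_over_fixedField :
    Algebra.IsSeparable (IntermediateField.fixedField (⊤ : Subgroup (E ≃ₐ[K] E))) E := by
  have : IsGalois (IntermediateField.fixedField (⊤ : Subgroup (E ≃ₐ[K] E))) E :=
    IsGalois.of_fixed_field E (⊤ : Subgroup (E ≃ₐ[K] E))
  infer_instance

end PurelyInseparable

theorem finite_integralClosure_self {R : Type u} [CommRing R] [IsDomain R] (h : CAlg.IsN2 R) : CAlg.IsN1 R :=
  h (FractionRing R) (Module.Finite.self _)

/-- A noetherian domain is N-2 when purely inseparable extensions have finite integral closures. -/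
theorem isN2_of_purelyInseparable {R : Type u} [CommRing R] [IsDomain R] [IsNoetherianRing R]
    (h : ∀ (K' : Type u) [Field K'] [Algebra R K'] [Algebra (FractionRing R) K']
      [IsScalarTower R (FractionRing R) K'], FiniteDimensional (FractionRing R) K' →
      IsPurelyInseparable (FractionRing R) K' → Module.Finite R (integralClosure R K')) : CAlg.IsN2 R := by
  intro L _ _ _ _ hL
  let K := FractionRing R
  have h1 : Module.Finite R (integralClosure R K) := h K (Module.Finite.self _) inferInstance
  let Ω := AlgebraicClosure L
  let _ : Algebra K Ω := inferInstance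
  let E : IntermediateField K Ω := IntermediateField.normalClosure K L Ω
  have : Algebra.IsAlgebraic K L := Algebra.IsAlgebraic.of_finite K L
  have : FiniteDimensional K E := normalClosure.is_finiteDimensional K L Ω
  have : Normal K E := normalClosure.normal K L Ω
  let F := IntermediateField.fixedField (⊤ : Subgroup (E ≃ₐ[K] E))
  have hpi : IsPurelyInseparable K F := isPurelyInseparable_fixedField K E
  have : Algebra.IsSeparable F E := isSeparable_over_fixedField K E
  have : Module.Finite R (integralClosure R F) := h F inferInstance hpi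
  have : FiniteDimensional F E := Module.Finite.of_restrictScalars_finite K F E
  have : IsScalarTower R F E := IsScalarTower.of_algebraMap_eq' rfl
  have hE : Module.Finite R (integralClosure R E) := finite_integralClosure_of_isSeparable K F E
  let i : L →ₐ[K] E := AlgHom.codRestrict (IsScalarTower.toAlgHom K L Ω) E.toSubalgebra fun x =>
    AlgHom.fieldRange_le_normalClosure (IsScalarTower.toAlgHom K L Ω) ⟨x, rfl⟩
  exact finite_integralClosure_of_injective (i.restrictScalars R) (i.restrictScalars R).injective

/-- In characteristic zero N-1 and N-2 agree. -/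
theorem isN2_of_isN1_of_charZero {R : Type u} [CommRing R] [IsDomain R] [IsNoetherianRing R] [CharZero R]
    (h : CAlg.IsN1 R) : CAlg.IsN2 R := by
  intro L _ _ _ _ hL
  have : CharZero (FractionRing R) := charZero_of_injective_algebraMap (IsFractionRing.injective R (FractionRing R))
  have : Module.Finite R (integralClosure R (FractionRing R)) := h
  exact finite_integralClosure_of_isSeparable (FractionRing R) (FractionRing R) L

section Localization

variable {R : Type u} [CommRing R] (M : Submonoid R) (S : Type v) [CommRing S] [Algebra R S] [IsLocalization M S]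
  {L : Type w} [CommRing L] [Algebra R L] [Algebra S L] [IsScalarTower R S L]

include M in
theorem exists_finset_integralClosure_localization [Module.Finite R (integralClosure R L)] :
    Module.Finite S (integralClosure S L) := by
  obtain ⟨s, hs⟩ := Module.Finite.fg_top (R := R) (M := integralClosure R L)
  classical
  refine ⟨⟨s.image fun x : integralClosure R L =>
    (⟨(x : L), (show IsIntegral R (x : L) from x.2).tower_top⟩ : integralClosure S L), ?_⟩⟩
  refine eq_top_iff.2 fun x _ => ?_
  obtain ⟨m, hm⟩ := IsIntegral.exists_multiple_integral_of_isLocalization M (x : L) x.2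
  let g : integralClosure R L →ₗ[R] integralClosure S L :=
    { toFun := fun x => ⟨x, (show IsIntegral R (x : L) from x.2).tower_top⟩
      map_add' := fun _ _ => rfl
      map_smul' := fun _ _ => rfl }
  have hmem : g ⟨(m : R) • (x : L), hm⟩ ∈ Submodule.span S (↑(s.image g) : Set (integralClosure S L)) := by
    have h1 : (⟨(m : R) • (x : L), hm⟩ : integralClosure R L) ∈ Submodule.span R (s : Set _) := hs ▸ Submodule.mem_top
    have h2 := Submodule.mem_map_of_mem (f := g) h1
    rw [Submodule.map_span, ← Finset.coe_image] at h2
    exact Submodule.span_le_restrictScalars R S _ h2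
  obtain ⟨u, hu⟩ := (IsLocalization.map_units S m)
  have : (↑u⁻¹ : S) • g ⟨(m : R) • (x : L), hm⟩ = x := by
    refine Subtype.ext ?_
    show (↑u⁻¹ : S) • ((m : R) • (x : L)) = x
    rw [← algebraMap_smul S (m : R) (x : L), smul_smul, ← hu, Units.inv_mul, one_smul]
  rw [← this]
  exact Submodule.smul_mem _ _ hmem

end Localization

section Open

variable {R : Type u} [CommRing R] [IsNoetherianRing R] {V : Type v} [AddCommGroup V] [Module R V]

theorem associatedPrimes_quot_pow_subset (f : R) (N : Submodule R V) (hf : IsSMulRegular V f) (k : ℕ) :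
    associatedPrimes R (N ⧸ (Ideal.span {f ^ (k + 1)} • ⊤ : Submodule R N)) ⊆
      associatedPrimes R (N ⧸ (Ideal.span {f} • ⊤ : Submodule R N)) := by
  induction k with
  | zero => rw [zero_add, pow_one]
  | succ k ih =>
    let A := Ideal.span {f ^ (k + 1)} • (⊤ : Submodule R N)
    let B := Ideal.span {f ^ (k + 2)} • (⊤ : Submodule R N)
    let C := Ideal.span {f} • (⊤ : Submodule R N)
    have hfN : IsSMulRegular N f := hf.submodule _ f
    let φ : (N ⧸ A) →ₗ[R] N ⧸ B := Submodule.mapQ A B (LinearMap.lsmul R N f) fun y hy => by
      simp only [A, B, Submodule.ideal_span_singleton_smul] at hy ⊢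
      obtain ⟨z, -, rfl⟩ := hy
      refine ⟨z, trivial, ?_⟩
      show f ^ (k + 1 + 1) • z = f • f ^ (k + 1) • z
      rw [smul_smul, ← pow_succ']
    have hφ : Function.Injective φ := by
      rw [injective_iff_map_eq_zero]
      intro y hy
      obtain ⟨y, rfl⟩ := Submodule.Quotient.mk_surjective _ y
      rw [Submodule.mapQ_apply, Submodule.Quotient.mk_eq_zero] at hy
      rw [Submodule.Quotient.mk_eq_zero]
      simp only [A, B, Submodule.ideal_span_singleton_smul] at hy ⊢
      obtain ⟨z, -, hz⟩ := hy
      refine ⟨z, trivial, hfN ?_⟩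
      simpa [pow_succ', mul_smul] using hz
    have hBC : B ≤ C := Submodule.smul_mono (Ideal.span_singleton_le_span_singleton.2 (dvd_pow_self f (by omega))) le_rfl
    have hex : Function.Exact φ (Submodule.factor hBC) := by
      intro y
      obtain ⟨y, rfl⟩ := Submodule.Quotient.mk_surjective _ y
      show (Submodule.Quotient.mk y : N ⧸ C) = 0 ↔ _
      rw [Submodule.Quotient.mk_eq_zero]
      constructor
      · intro hy
        simp only [C, Submodule.ideal_span_singleton_smul] at hy
        obtain ⟨z, -, rfl⟩ := hy
        exact ⟨Submodule.Quotient.mk z, rfl⟩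
      · rintro ⟨w, hw⟩
        obtain ⟨w, rfl⟩ := Submodule.Quotient.mk_surjective _ w
        rw [Submodule.mapQ_apply, Submodule.Quotient.eq] at hw
        have h1 : f • w - y ∈ C := hBC hw
        have h2 : f • w ∈ C := Submodule.smul_mem_smul (Ideal.mem_span_singleton_self f) Submodule.mem_top
        simpa using sub_mem h2 h1
    exact (associatedPrimes.subset_union_of_exact hφ hex).trans (Set.union_subset ih subset_rfl)

/-- The set of primes where a finite submodule exhausts an `f`-bounded module is open. -/
theorem isOpen_setOf_eq_localized (f : R) (hf : IsSMulRegular V f) (N : Submodule R V) (hN : N.FG) (C : Submodule R V)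
    (hbd : ∀ c ∈ C, ∃ k : ℕ, f ^ k • c ∈ N) :
    IsOpen {P : PrimeSpectrum R | ∀ c ∈ C, ∃ t, t ∉ P.asIdeal ∧ t • c ∈ N} := by
  have : Module.Finite R N := Module.Finite.iff_fg.2 hN
  let Q₀ := N ⧸ (Ideal.span {f} • ⊤ : Submodule R N)
  let bad : Set (Ideal R) := {Q ∈ associatedPrimes R Q₀ | ∃ c ∈ C, ∀ t, t • c ∈ N → t ∈ Q}
  have hfin : bad.Finite := (associatedPrimes.finite R Q₀).subset fun Q h => h.1
  have key : {P : PrimeSpectrum R | ∀ c ∈ C, ∃ t, t ∉ P.asIdeal ∧ t • c ∈ N} =
      (⋃ Q ∈ bad, PrimeSpectrum.zeroLocus (Q : Set R))ᶜ := by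
    ext P
    simp only [Set.mem_ofPred_eq, Set.mem_compl_iff, Set.mem_iUnion, PrimeSpectrum.mem_zeroLocus, SetLike.coe_subset_coe,
      exists_prop, not_exists, not_and]
    constructor
    · rintro hP Q ⟨-, c, hc, hQ⟩ hQP
      obtain ⟨t, ht, htc⟩ := hP c hc
      exact ht (hQP (hQ t htc))
    · intro hP c hc
      by_contra hcon
      push Not at hcon
      obtain ⟨k, hk⟩ := hbd c hc
      have hk' : f ^ (k + 1) • c ∈ N := by rw [pow_succ', mul_smul]; exact N.smul_mem f hk
      let d : N ⧸ (Ideal.span {f ^ (k + 1)} • ⊤ : Submodule R N) := Submodule.Quotient.mk ⟨_, hk'⟩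
      have hreg : IsSMulRegular V (f ^ (k + 1)) := hf.pow _
      have hcolon : ∀ t, t ∈ (⊥ : Submodule R _).colon {d} ↔ t • c ∈ N := by
        intro t
        rw [Submodule.mem_colon_singleton, Submodule.mem_bot, ← Submodule.Quotient.mk_smul,
          Submodule.Quotient.mk_eq_zero, Submodule.ideal_span_singleton_smul]
        constructor
        · rintro ⟨z, -, hz⟩
          have h1 := congrArg Subtype.val hz
          simp only [DistribSMul.toLinearMap_apply, SetLike.val_smul] at h1
          have : (z : V) = t • c := hreg (h1.trans (smul_comm _ _ _))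
          exact this ▸ z.2
        · intro htc
          exact ⟨⟨_, htc⟩, trivial, Subtype.ext (smul_comm _ _ _)⟩
      have hle : (⊥ : Submodule R _).colon {d} ≤ P.asIdeal := fun t ht => by
        by_contra htP
        exact hcon t htP ((hcolon t).1 ht)
      obtain ⟨Q, hQ, hQP⟩ := Ideal.exists_minimalPrimes_le hle
      have : Q.IsPrime := hQ.1.1
      have hQass : Q ∈ associatedPrimes R (N ⧸ (Ideal.span {f ^ (k + 1)} • ⊤ : Submodule R N)) :=
        AssociatedPrimes.mem_iff.2 (isAssociatedPrime_iff.2 ⟨inferInstance, Submodule.exists_eq_colon_of_mem_minimalPrimes hQ⟩)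
      exact hP Q ⟨associatedPrimes_quot_pow_subset f N hf k hQass, c, hc, fun t ht => hQ.1.2 ((hcolon t).2 ht)⟩ hQP
  rw [key, isOpen_compl_iff]
  exact hfin.isClosed_biUnion fun Q _ => PrimeSpectrum.isClosed_zeroLocus _

end Open

section Normal

variable (R : Type u) [CommRing R] [IsDomain R]

theorem isIntegrallyClosed_atPrime_iff (P : Ideal R) [P.IsPrime] :
    IsIntegrallyClosed (Localization.AtPrime P) ↔
      ∀ c : FractionRing R, IsIntegral R c → ∃ t, t ∉ P ∧ t • c ∈ LinearMap.range (Algebra.linearMap R (FractionRing R)) := by
  let RP := Localization.AtPrime P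
  let K := FractionRing R
  have : IsFractionRing RP K :=
    IsFractionRing.isFractionRing_of_isDomain_of_isLocalization P.primeCompl RP K
  constructor
  · intro h c hc
    obtain ⟨y, hy⟩ := (isIntegrallyClosed_iff K).1 h (hc.tower_top (A := RP))
    obtain ⟨r, t, rfl⟩ := IsLocalization.exists_mk'_eq P.primeCompl y
    refine ⟨t, t.2, r, ?_⟩
    rw [Algebra.linearMap_apply, Algebra.smul_def, ← hy, IsScalarTower.algebraMap_apply R RP K,
      IsScalarTower.algebraMap_apply R RP K, ← map_mul, ← IsLocalization.mk'_spec RP r t, mul_comm]
  · intro h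
    refine (isIntegrallyClosed_iff K).2 fun {x} hx => ?_
    obtain ⟨m, hm⟩ := IsIntegral.exists_multiple_integral_of_isLocalization P.primeCompl x hx
    obtain ⟨t, ht, r, hr⟩ := h _ hm
    have hs : (t : R) * m ∈ P.primeCompl := fun hmem => (Ideal.IsPrime.mem_or_mem ‹_› hmem).elim ht m.2
    refine ⟨IsLocalization.mk' RP r ⟨(t : R) * m, hs⟩, ?_⟩
    have hne : algebraMap R K ((t : R) * m) ≠ 0 :=
      (map_ne_zero_iff _ (IsFractionRing.injective R K)).2 fun h0 => hs (by rw [h0]; exact P.zero_mem)
    have e1 : algebraMap R RP ((t : R) * m) * IsLocalization.mk' RP r (⟨(t : R) * m, hs⟩ : P.primeCompl) =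
        algebraMap R RP r := IsLocalization.mk'_spec' RP r (⟨(t : R) * m, hs⟩ : P.primeCompl)
    have h1 := congrArg (algebraMap RP K) e1
    rw [map_mul, ← IsScalarTower.algebraMap_apply R RP K, ← IsScalarTower.algebraMap_apply R RP K] at h1
    refine mul_left_cancel₀ hne ?_
    rw [Algebra.linearMap_apply] at hr
    rw [h1, hr, map_mul, Algebra.smul_def, Submonoid.smul_def, Algebra.smul_def, mul_assoc]

variable [IsNoetherianRing R]

theorem exists_pow_smul_mem (f : R) (hf : f ≠ 0) (hn : IsIntegrallyClosed (Localization.Away f))
    (c : FractionRing R) (hc : IsIntegral R c) :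
    ∃ k : ℕ, f ^ k • c ∈ LinearMap.range (Algebra.linearMap R (FractionRing R)) := by
  let Rf := Localization.Away f
  let K := FractionRing R
  have hle : Submonoid.powers f ≤ R⁰ := powers_le_nonZeroDivisors_of_noZeroDivisors hf
  let _ : Algebra Rf K := (IsLocalization.Away.lift f (g := algebraMap R K)
    (isUnit_iff_ne_zero.2 ((map_ne_zero_iff _ (IsFractionRing.injective R K)).2 hf))).toAlgebra
  have : IsScalarTower R Rf K := IsScalarTower.of_algebraMap_eq' (IsLocalization.lift_comp _).symm
  have : IsFractionRing Rf K := IsFractionRing.isFractionRing_of_isDomain_of_isLocalization (Submonoid.powers f) Rf K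
  have : IsDomain Rf := IsLocalization.isDomain_localization hle
  obtain ⟨y, hy⟩ := (isIntegrallyClosed_iff K).1 hn (hc.tower_top (A := Rf))
  obtain ⟨r, t, rfl⟩ := IsLocalization.exists_mk'_eq (Submonoid.powers f) y
  obtain ⟨k, hk⟩ := t.2
  refine ⟨k, r, ?_⟩
  have hk' : f ^ k = (t : R) := hk
  rw [Algebra.linearMap_apply, Algebra.smul_def, hk', ← hy, IsScalarTower.algebraMap_apply R Rf K,
    IsScalarTower.algebraMap_apply R Rf K, ← map_mul, IsLocalization.mk'_spec']

theorem isOpen_normal_locus (f : R) (hf : f ≠ 0) (hn : IsIntegrallyClosed (Localization.Away f)) :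
    IsOpen {p : PrimeSpectrum R | IsIntegrallyClosed (Localization.AtPrime p.asIdeal)} := by
  let K := FractionRing R
  have hreg : IsSMulRegular K f := IsSMulRegular.of_right_eq_zero_of_smul fun x hx => by
    rw [Algebra.smul_def, mul_eq_zero] at hx
    exact hx.resolve_left ((map_ne_zero_iff _ (IsFractionRing.injective R K)).2 hf)
  have h := isOpen_setOf_eq_localized f hreg (LinearMap.range (Algebra.linearMap R K))
    (by rw [← Submodule.map_top]; exact (IsNoetherian.noetherian ⊤).map _)
    (integralClosure R K).toSubmodule fun c hc => exists_pow_smul_mem R f hf hn c hc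
  convert h using 1
  ext P
  exact isIntegrallyClosed_atPrime_iff R P.asIdeal

end Normal

end NormalLib
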