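import Mathlib.RingTheory.OrderOfVanishing.Basic
import Mathlib.RingTheory.Length
import Mathlib.RingTheory.Artinian.Module
import Mathlib.RingTheory.Localization.Integer
import Mathlib.RingTheory.Localization.Integral
import Mathlib.RingTheory.Algebraic.Integral
import Mathlib.LinearAlgebra.FiniteDimensional.Basic

/-! The Krull–Akizuki theorem. -/

set_option autoImplicit false

universe u v w

namespace NormalLib

variable {R : Type u} [CommRing R]

/-- A bound on the lengths of finitely generated submodules bounds the length. -/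
theorem length_le_of_forall_fg {M : Type v} [AddCommGroup M] [Module R M] {c : ℕ∞}
    (h : ∀ N : Submodule R M, N.FG → Module.length R N ≤ c) : Module.length R M ≤ c := by
  classical
  rw [Module.length_eq_height]
  refine Order.height_le fun p _ => ?_
  have hstep : ∀ i : Fin p.length, ∃ z, z ∈ p i.succ ∧ z ∉ p i.castSucc := fun i =>
    SetLike.exists_of_lt (p.strictMono (Fin.castSucc_lt_succ (i := i)))
  choose z hz hz' using hstep
  let N : Submodule R M := Submodule.span R (Set.range z)
  refine le_trans ?_ (h N (Submodule.fg_span (Set.finite_range z)))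
  rw [Module.length_eq_height]
  let q : LTSeries (Submodule R N) := LTSeries.mk p.length (fun i => (p i).comap N.subtype)
    (Fin.strictMono_iff_lt_succ.2 fun i => by
      refine lt_of_le_of_ne (Submodule.comap_mono (p.strictMono (Fin.castSucc_lt_succ (i := i))).le) fun e => hz' i ?_
      have hm : (⟨z i, Submodule.subset_span ⟨i, rfl⟩⟩ : N) ∈ (p i.succ).comap N.subtype := hz i
      rw [← e] at hm
      exact hm)
  exact (Order.length_le_height (p := q) le_top)

theorem length_le_add_of_exact {M : Type v} {N P : Type*} [AddCommGroup M] [Module R M] [AddCommGroup N] [Module R N]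
    [AddCommGroup P] [Module R P] (f : N →ₗ[R] M) (g : M →ₗ[R] P) (hg : Function.Surjective g)
    (hfg : Function.Exact f g) : Module.length R M ≤ Module.length R N + Module.length R P := by
  rw [Module.length_eq_add_of_exact (LinearMap.range f).subtype g Subtype.val_injective hg
    (by rw [LinearMap.exact_iff, Submodule.range_subtype]; exact LinearMap.exact_iff.1 hfg)]
  exact add_le_add (Module.length_le_of_surjective f.rangeRestrict f.surjective_rangeRestrict) le_rfl

variable [IsDomain R] [IsNoetherianRing R] [Ring.KrullDimLE 1 R]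

theorem length_quotient_ne_top {J : Ideal R} (hJ : J ≠ ⊥) : Module.length R (R ⧸ J) ≠ ⊤ := by
  obtain ⟨a, ha, ha0⟩ := Submodule.exists_mem_ne_zero_of_ne_bot hJ
  have h := Module.length_ne_top_iff.2 (isFiniteLength_quotient_span_singleton R (mem_nonZeroDivisors_of_ne_zero ha0))
  exact ne_top_of_le_ne_top h (Module.length_le_of_surjective
    (Submodule.factor ((Ideal.span_singleton_le_iff_mem _).2 ha)) (Submodule.factor_surjective _))

theorem length_ideal_quot {J : Ideal R} (hJ : J ≠ ⊥) {x : R} (hx : x ≠ 0) :
    Module.length R (J ⧸ (Ideal.span {x} • ⊤ : Submodule R J)) = Module.length R (R ⧸ Ideal.span {x}) := by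
  classical
  let K : Ideal R := Ideal.span {x} * J
  have hKJ : K ≤ J := Ideal.mul_le_right
  have hKx : K ≤ Ideal.span {x} := Ideal.mul_le_left
  have hJm : (Ideal.span {x} • ⊤ : Submodule R J) = Submodule.comap J.subtype K := by
    ext y
    rw [Submodule.mem_smul_top_iff, Submodule.mem_comap]
    rfl
  let f₁ : (J ⧸ (Ideal.span {x} • ⊤ : Submodule R J)) →ₗ[R] R ⧸ K :=
    Submodule.mapQ _ _ J.subtype hJm.le
  have hf₁ : Function.Injective f₁ := by
    rw [injective_iff_map_eq_zero]
    intro y hy
    obtain ⟨y, rfl⟩ := Submodule.Quotient.mk_surjective _ y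
    rw [Submodule.mapQ_apply, Submodule.Quotient.mk_eq_zero] at hy
    rw [Submodule.Quotient.mk_eq_zero, hJm]
    exact hy
  have e1 := Module.length_eq_add_of_exact f₁ (Submodule.factor hKJ) hf₁ (Submodule.factor_surjective _) (by
    intro y
    obtain ⟨y, rfl⟩ := Submodule.Quotient.mk_surjective _ y
    show (Submodule.Quotient.mk y : R ⧸ J) = 0 ↔ _
    rw [Submodule.Quotient.mk_eq_zero]
    constructor
    · exact fun hy => ⟨Submodule.Quotient.mk ⟨y, hy⟩, rfl⟩
    · rintro ⟨w, hw⟩
      obtain ⟨w, rfl⟩ := Submodule.Quotient.mk_surjective _ w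
      rw [Submodule.mapQ_apply, Submodule.Quotient.eq] at hw
      simpa using J.sub_mem w.2 (hKJ hw))
  let g : (R ⧸ J) →ₗ[R] R ⧸ K := Submodule.mapQ J K (LinearMap.lsmul R R x) fun y hy =>
    Ideal.mul_mem_mul (Ideal.mem_span_singleton_self x) hy
  have hg : Function.Injective g := by
    rw [injective_iff_map_eq_zero]
    intro y hy
    obtain ⟨y, rfl⟩ := Submodule.Quotient.mk_surjective _ y
    rw [Submodule.mapQ_apply, Submodule.Quotient.mk_eq_zero] at hy
    obtain ⟨z, hz, hzy⟩ := Ideal.mem_span_singleton_mul.1 hy
    rw [Submodule.Quotient.mk_eq_zero]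
    have hzy' : x * z = x * y := hzy.trans (by simp)
    rwa [← mul_left_cancel₀ hx hzy']
  have e2 := Module.length_eq_add_of_exact g (Submodule.factor hKx) hg (Submodule.factor_surjective _) (by
    intro y
    obtain ⟨y, rfl⟩ := Submodule.Quotient.mk_surjective _ y
    show (Submodule.Quotient.mk y : R ⧸ Ideal.span {x}) = 0 ↔ _
    rw [Submodule.Quotient.mk_eq_zero, Ideal.mem_span_singleton']
    constructor
    · rintro ⟨w, rfl⟩
      exact ⟨Submodule.Quotient.mk w, congrArg Submodule.Quotient.mk (mul_comm x w)⟩
    · rintro ⟨w, hw⟩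
      obtain ⟨w, rfl⟩ := Submodule.Quotient.mk_surjective _ w
      rw [Submodule.mapQ_apply, Submodule.Quotient.eq] at hw
      obtain ⟨z, hz⟩ := Ideal.mem_span_singleton'.1 (hKx hw)
      exact ⟨w - z, by simp at hz ⊢; linear_combination -hz⟩)
  rw [e2, add_comm] at e1
  exact (WithTop.add_right_cancel (length_quotient_ne_top hJ) e1).symm

variable (K : Type w) [Field K] [Algebra R K] [IsFractionRing R K]

theorem length_quot_le_of_injective_finite {N : Type v} [AddCommGroup N] [Module R N] [Module.Finite R N]
    (j : N →ₗ[R] K) (hj : Function.Injective j) {x : R} (hx : x ≠ 0) :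
    Module.length R (N ⧸ (Ideal.span {x} • ⊤ : Submodule R N)) ≤ Module.length R (R ⧸ Ideal.span {x}) := by
  classical
  obtain ⟨s, hs⟩ := (Module.Finite.fg_top (R := R) (M := N))
  obtain ⟨d, hd⟩ := IsLocalization.exist_integer_multiples (nonZeroDivisors R) (S := K) s j
  let j' : N →ₗ[R] K := (d : R) • j
  have hj' : Function.Injective j' := fun a b h => hj (by
    have h' : algebraMap R K d * j a = algebraMap R K d * j b := by simpa [j', Algebra.smul_def] using h
    exact mul_left_cancel₀ ((map_ne_zero_iff _ (IsFractionRing.injective R K)).2 (nonZeroDivisors.coe_ne_zero d)) h')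
  have hrange : ∀ y, j' y ∈ LinearMap.range (Algebra.linearMap R K) := by
    intro y
    have hy : y ∈ Submodule.span R (s : Set N) := hs ▸ Submodule.mem_top
    induction hy using Submodule.span_induction with
    | mem y hy => exact hd y hy
    | zero => simp
    | add a b _ _ ha hb => rw [map_add]; exact add_mem ha hb
    | smul r a _ ha => rw [map_smul]; exact Submodule.smul_mem _ r ha
  let e : R ≃ₗ[R] LinearMap.range (Algebra.linearMap R K) :=
    LinearEquiv.ofInjective _ (IsFractionRing.injective R K)
  let t : N →ₗ[R] R := e.symm.toLinearMap ∘ₗ j'.codRestrict _ hrange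
  have ht : Function.Injective t := fun a b h => hj' (congrArg Subtype.val (e.symm.injective h))
  let J : Ideal R := LinearMap.range t
  let q : N ≃ₗ[R] J := LinearEquiv.ofInjective t ht
  have hq : (Submodule.map q.toLinearMap (Ideal.span {x} • ⊤ : Submodule R N)) = Ideal.span {x} • ⊤ := by
    rw [Submodule.map_smul'', Submodule.map_top, LinearEquiv.range]
  rw [(Submodule.Quotient.equiv _ _ q hq).length_eq]
  by_cases hJ : J = ⊥
  · have : Subsingleton J := by rw [hJ]; infer_instance
    simp
  · rw [length_ideal_quot hJ hx]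

theorem length_quot_le_of_injective_one {M : Type v} [AddCommGroup M] [Module R M] (j : M →ₗ[R] K)
    (hj : Function.Injective j) {x : R} (hx : x ≠ 0) :
    Module.length R (M ⧸ (Ideal.span {x} • ⊤ : Submodule R M)) ≤ Module.length R (R ⧸ Ideal.span {x}) := by
  classical
  refine length_le_of_forall_fg fun S hS => ?_
  obtain ⟨s, rfl⟩ := hS
  choose l hl using Submodule.Quotient.mk_surjective (Ideal.span {x} • ⊤ : Submodule R M)
  let N : Submodule R M := Submodule.span R (s.image l : Set M)
  have : Module.Finite R N := Module.Finite.iff_fg.2 (Submodule.fg_span (Finset.finite_toSet _))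
  let φ : (N ⧸ (Ideal.span {x} • ⊤ : Submodule R N)) →ₗ[R] M ⧸ (Ideal.span {x} • ⊤ : Submodule R M) :=
    Submodule.mapQ _ _ N.subtype fun y hy => by
      rw [Submodule.mem_smul_top_iff] at hy
      exact Submodule.smul_mono le_rfl le_top hy
  have hle : Submodule.span R (s : Set (M ⧸ (Ideal.span {x} • ⊤ : Submodule R M))) ≤ LinearMap.range φ := by
    rw [Submodule.span_le]
    intro y hy
    exact ⟨Submodule.Quotient.mk ⟨l y, Submodule.subset_span (Finset.mem_coe.2 (Finset.mem_image_of_mem l hy))⟩, hl y⟩
  exact (Module.length_le_of_injective _ (Submodule.inclusion_injective hle)).trans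
    ((Module.length_le_of_surjective φ.rangeRestrict φ.surjective_rangeRestrict).trans
      (length_quot_le_of_injective_finite K (j ∘ₗ N.subtype) (hj.comp Subtype.val_injective) hx))

/-- Krull–Akizuki: a torsion free module of rank at most `r` has `M/xM` of length at most `r · ℓ(R/x)`. -/
theorem length_quot_le_of_injective {x : R} (hx : x ≠ 0) :
    ∀ (r : ℕ) {M : Type v} [AddCommGroup M] [Module R M] (j : M →ₗ[R] (Fin r → K)), Function.Injective j →
      Module.length R (M ⧸ (Ideal.span {x} • ⊤ : Submodule R M)) ≤ r * Module.length R (R ⧸ Ideal.span {x}) := by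
  intro r
  induction r with
  | zero =>
    intro M _ _ j hj
    have : Subsingleton M := hj.subsingleton
    simp
  | succ r ih =>
    intro M _ _ j hj
    let p : M →ₗ[R] K := (LinearMap.proj 0).comp j
    let M' := LinearMap.ker p
    let M'' := LinearMap.range p
    let j' : M' →ₗ[R] (Fin r → K) := LinearMap.pi fun i => ((LinearMap.proj i.succ).comp j).comp M'.subtype
    have hj' : Function.Injective j' := fun a b h => Subtype.ext (hj (funext fun i => by
      refine Fin.cases ?_ (fun i => congrFun h i) i
      exact (LinearMap.mem_ker.1 a.2).trans (LinearMap.mem_ker.1 b.2).symm))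
    let f : (M' ⧸ (Ideal.span {x} • ⊤ : Submodule R M')) →ₗ[R] M ⧸ (Ideal.span {x} • ⊤ : Submodule R M) :=
      Submodule.mapQ _ _ M'.subtype fun y hy => by
        rw [Submodule.mem_smul_top_iff] at hy
        exact Submodule.smul_mono le_rfl le_top hy
    let g : (M ⧸ (Ideal.span {x} • ⊤ : Submodule R M)) →ₗ[R] M'' ⧸ (Ideal.span {x} • ⊤ : Submodule R M'') :=
      Submodule.mapQ _ _ p.rangeRestrict fun y hy => by
        have := Submodule.mem_map_of_mem (f := p.rangeRestrict) hy
        rw [Submodule.map_smul''] at this
        exact Submodule.smul_mono le_rfl le_top this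
    have hg : Function.Surjective g := fun y => by
      obtain ⟨y, rfl⟩ := Submodule.Quotient.mk_surjective _ y
      obtain ⟨m, rfl⟩ := p.surjective_rangeRestrict y
      exact ⟨Submodule.Quotient.mk m, rfl⟩
    have hfg : Function.Exact f g := by
      intro y
      obtain ⟨y, rfl⟩ := Submodule.Quotient.mk_surjective _ y
      constructor
      · intro hy
        rw [Submodule.mapQ_apply, Submodule.Quotient.mk_eq_zero] at hy
        have h : p.rangeRestrict y ∈ Submodule.map p.rangeRestrict (Ideal.span {x} • ⊤ : Submodule R M) := by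
          rw [Submodule.map_smul'', Submodule.map_top, LinearMap.range_rangeRestrict]
          exact hy
        obtain ⟨z, hz, hzy⟩ := h
        refine ⟨Submodule.Quotient.mk ⟨y - z, ?_⟩, ?_⟩
        · have := congrArg Subtype.val hzy
          rw [LinearMap.mem_ker, map_sub, sub_eq_zero]
          exact this.symm
        · rw [Submodule.mapQ_apply, Submodule.Quotient.eq]
          simpa using hz
      · rintro ⟨w, hw⟩
        obtain ⟨w, rfl⟩ := Submodule.Quotient.mk_surjective _ w
        rw [← hw, Submodule.mapQ_apply, Submodule.mapQ_apply]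
        rw [show p.rangeRestrict (M'.subtype w) = 0 from Subtype.ext (LinearMap.mem_ker.1 w.2)]
        exact Submodule.Quotient.mk_zero _
    refine (length_le_add_of_exact f g hg hfg).trans ?_
    rw [Nat.cast_succ, add_mul, one_mul]
    exact add_le_add (ih j' hj') (length_quot_le_of_injective_one K M''.subtype Subtype.val_injective hx)

variable {L : Type v} [Field L] [Algebra K L] [FiniteDimensional K L] [Algebra R L] [IsScalarTower R K L]
  (A : Type v) [CommRing A] [Algebra R A] [Algebra A L] [IsScalarTower R A L]

include K L in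
/-- Quotients of intermediate rings by nonzero elements of the base have finite length. -/
theorem isFiniteLength_quot (hA : Function.Injective (algebraMap A L)) {x : R} (hx : x ≠ 0) :
    IsFiniteLength R (A ⧸ (Ideal.span {x} • ⊤ : Submodule R A)) := by
  rw [← Module.length_ne_top_iff]
  let b := Module.finBasis K L
  let j : A →ₗ[R] (Fin (Module.finrank K L) → K) :=
    (b.equivFun.toLinearMap.restrictScalars R).comp (IsScalarTower.toAlgHom R A L).toLinearMap
  have hj : Function.Injective j := b.equivFun.injective.comp hA
  refine ne_top_of_le_ne_top ?_ (length_quot_le_of_injective K hx _ j hj)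
  exact WithTop.mul_ne_top (ENat.natCast_ne_top _) (length_quotient_ne_top (by simpa [Ideal.span_singleton_eq_bot]))

include K L in
theorem exists_algebraMap_mem (hA : Function.Injective (algebraMap A L)) {I : Ideal A} (hI : I ≠ ⊥) :
    ∃ x : R, x ≠ 0 ∧ algebraMap R A x ∈ I := by
  have : IsDomain A := hA.isDomain
  obtain ⟨a, ha, ha0⟩ := Submodule.exists_mem_ne_zero_of_ne_bot hI
  have halg : IsAlgebraic R a := by
    have h1 : IsAlgebraic R (algebraMap A L a) :=
      (IsFractionRing.isAlgebraic_iff R K L).2 (Algebra.IsAlgebraic.isAlgebraic _)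
    exact (isAlgebraic_algHom_iff (IsScalarTower.toAlgHom R A L) hA).1 h1
  obtain ⟨r, hr, hdvd⟩ := halg.exists_nonzero_dvd (mem_nonZeroDivisors_of_ne_zero ha0)
  exact ⟨r, hr, Ideal.mem_of_dvd _ hdvd ha⟩

include R K L in
theorem isNoetherianRing_of_between (hA : Function.Injective (algebraMap A L)) : IsNoetherianRing A := by
  classical
  refine (isNoetherianRing_iff_ideal_fg A).2 fun I => ?_
  by_cases hI : I = ⊥
  · rw [hI]; exact Submodule.fg_bot
  obtain ⟨x, hx, hxI⟩ := exists_algebraMap_mem (R := R) K (L := L) A hA hI
  let Q := A ⧸ (Ideal.span {x} • ⊤ : Submodule R A)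
  have : IsNoetherian R Q := ((isFiniteLength_iff_isNoetherian_isArtinian.1 (isFiniteLength_quot K A hA hx)).1)
  obtain ⟨s, hs⟩ := IsNoetherian.noetherian ((I.restrictScalars R).map (Submodule.mkQ _) : Submodule R Q)
  have hlift : ∀ q ∈ s, ∃ a ∈ I, Submodule.Quotient.mk a = q := fun q hq => by
    obtain ⟨a, ha, he⟩ := (hs ▸ Submodule.subset_span (Finset.mem_coe.2 hq) : q ∈ (I.restrictScalars R).map (Submodule.mkQ _))
    exact ⟨a, ha, he⟩
  choose! l hl hl' using hlift
  refine ⟨insert (algebraMap R A x) (s.image l), le_antisymm (Submodule.span_le.2 ?_) fun a ha => ?_⟩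
  · intro y hy
    rw [Finset.coe_insert, Set.mem_insert_iff] at hy
    rcases hy with rfl | hy
    · exact hxI
    · obtain ⟨q, hq, rfl⟩ := Finset.mem_image.1 hy
      exact hl q hq
  · have h1 : Submodule.Quotient.mk a ∈ Submodule.span R (s : Set Q) := hs ▸ Submodule.mem_map_of_mem (f := Submodule.mkQ _) ha
    have h2 : Submodule.span R (s : Set Q) ≤
        ((Submodule.span A (↑(insert (algebraMap R A x) (s.image l)) : Set A)).restrictScalars R).map (Submodule.mkQ _) := by
      refine Submodule.span_le.2 fun q hq => ⟨l q, Submodule.subset_span ?_, hl' q hq⟩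
      exact Finset.mem_coe.2 (Finset.mem_insert_of_mem (Finset.mem_image_of_mem l hq))
    obtain ⟨a', ha', haa'⟩ := h2 h1
    have h3 : a - a' ∈ (Ideal.span {x} • ⊤ : Submodule R A) := by
      rw [← Submodule.Quotient.eq]; exact haa'.symm
    rw [Submodule.ideal_span_singleton_smul] at h3
    obtain ⟨w, -, hw⟩ := h3
    rw [show a = a' + x • w from eq_add_of_sub_eq' hw.symm, Algebra.smul_def]
    exact add_mem ha' (Ideal.mul_mem_right w _ (Submodule.subset_span (Finset.mem_coe.2 (Finset.mem_insert_self _ _))))

end NormalLib
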