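import Groth.Agent.NormalLib.Serre
import Mathlib.RingTheory.Ideal.MinimalPrime.Basic
import Mathlib.RingTheory.Ideal.MinimalPrime.Localization

/-! Normal rings. -/

set_option autoImplicit false

universe u v

open IsLocalRing CommAlgDim
open scoped nonZeroDivisors

namespace NormalLib

variable {R : Type u} [CommRing R]

/-- All local rings are normal domains. -/
def LocNormal (R : Type u) [CommRing R] : Prop :=
  ∀ (p : Ideal R) [p.IsPrime], IsDomain (Localization.AtPrime p) ∧ IsIntegrallyClosed (Localization.AtPrime p)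

theorem LocNormal.isReduced (h : LocNormal R) : IsReduced R := by
  refine ⟨fun x hx => ?_⟩
  by_contra hx0
  obtain ⟨m, hm, hle⟩ := Ideal.exists_le_maximal ((⊥ : Submodule R R).colon {x}) (by
    rw [Ne, Ideal.eq_top_iff_one, Submodule.mem_colon_singleton, one_smul, Submodule.mem_bot]; exact hx0)
  have := hm.isPrime
  have := (h m).1
  have h2 : algebraMap R (Localization.AtPrime m) x = 0 := (hx.map _).eq_zero
  obtain ⟨s, hs⟩ := (IsLocalization.map_eq_zero_iff m.primeCompl (Localization.AtPrime m) x).1 h2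
  exact s.2 (hle (by rw [Submodule.mem_colon_singleton, Submodule.mem_bot]; exact hs))

theorem LocNormal.exists_eq_of_isIntegral (h : LocNormal R) (Q : Type v) [CommRing Q] [Algebra R Q]
    [IsLocalization R⁰ Q] {x : Q} (hx : IsIntegral R x) : ∃ y, algebraMap R Q y = x := by
  obtain ⟨⟨b, a⟩, hab⟩ := IsLocalization.surj R⁰ x
  suffices (a : R) ∣ b by
    obtain ⟨y, hy⟩ := this
    refine ⟨y, (IsLocalization.map_units Q a).mul_left_injective ?_⟩
    show algebraMap R Q y * algebraMap R Q a = x * algebraMap R Q a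
    rw [hab, ← map_mul, hy, mul_comm]
  by_contra hdvd
  obtain ⟨P, hP, hle⟩ := Ideal.exists_le_maximal
    (Submodule.colon (Ideal.span {(a : R)} : Submodule R R) {b}) (by
    rw [Ne, Ideal.eq_top_iff_one, Submodule.mem_colon_singleton, one_smul, Ideal.mem_span_singleton]; exact hdvd)
  have := hP.isPrime
  let RP := Localization.AtPrime P
  have : IsDomain RP := (h P).1
  have : IsIntegrallyClosed RP := (h P).2
  let F := FractionRing RP
  have haF : ∀ c : R⁰, IsUnit (algebraMap R F c) := fun c => by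
    rw [IsScalarTower.algebraMap_apply R RP F, isUnit_iff_ne_zero]
    refine (map_ne_zero_iff _ (IsFractionRing.injective RP F)).2 fun h => ?_
    obtain ⟨s, hs⟩ := (IsLocalization.map_eq_zero_iff P.primeCompl RP (c : R)).1 h
    have : (s : R) = 0 := mem_nonZeroDivisors_iff_right.1 c.2 _ hs
    exact s.2 (this ▸ P.zero_mem)
  let ψ : Q →ₐ[R] F := IsLocalization.liftAlgHom (M := R⁰) (f := Algebra.ofId R F) haF
  obtain ⟨d, hd⟩ := IsIntegrallyClosed.isIntegral_iff.1 ((hx.map ψ).tower_top (A := RP))
  obtain ⟨d, t, rfl⟩ := IsLocalization.exists_mk'_eq P.primeCompl d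
  have h3 : algebraMap R RP ((a : R) * d) = algebraMap R RP (t * b) := by
    refine IsFractionRing.injective RP F ?_
    have h4 := congrArg ψ hab
    rw [map_mul, AlgHom.commutes, AlgHom.commutes, ← hd, IsScalarTower.algebraMap_apply R RP F,
      IsScalarTower.algebraMap_apply R RP F, ← map_mul] at h4
    rw [map_mul, map_mul, ← IsLocalization.mk'_spec RP d t, map_mul, map_mul]
    simp only [map_mul] at h4 ⊢
    linear_combination (algebraMap RP F (algebraMap R RP t)) * h4
  obtain ⟨s, hs⟩ := IsLocalization.exists_of_eq (M := P.primeCompl) h3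
  refine (s * t).2 (hle ?_)
  rw [Submodule.mem_colon_singleton, Ideal.mem_span_singleton]
  exact ⟨s * d, by show (s : R) * t * b = _; linear_combination (-1 : R) * hs⟩

theorem LocNormal.isIntegrallyClosedIn (h : LocNormal R) (Q : Type v) [CommRing Q] [Algebra R Q]
    [IsLocalization R⁰ Q] : IsIntegrallyClosedIn R Q :=
  isIntegrallyClosedIn_iff.2 ⟨IsLocalization.injective Q le_rfl, fun hx => h.exists_eq_of_isIntegral Q hx⟩

/-- The minimal primes split off when the ring is integrally closed in its total ring of fractions. -/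
theorem exists_idempotent [IsReduced R] (hfin : (minimalPrimes R).Finite) (Q : Type v) [CommRing Q] [Algebra R Q]
    [IsLocalization R⁰ Q] (hic : ∀ x : Q, IsIntegral R x → ∃ y, algebraMap R Q y = x)
    {p : Ideal R} (hp : p ∈ minimalPrimes R) :
    ∃ e : R, e * e = e ∧ (1 - e) ∈ p ∧ ∀ q ∈ minimalPrimes R, q ≠ p → e ∈ q := by
  classical
  have hpp : p.IsPrime := hp.1.1
  let O := hfin.toFinset.erase p
  have hO : ∀ q ∈ O, q.IsPrime ∧ ¬ q ≤ p ∧ ¬ p ≤ q := fun q hq => by
    rw [Finset.mem_erase, Set.Finite.mem_toFinset] at hq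
    have hqp : q.IsPrime := hq.2.1.1
    refine ⟨hqp, fun hle => hq.1 (le_antisymm hle (hp.2 ⟨hqp, bot_le⟩ hle)), fun hle => hq.1 ?_⟩
    exact le_antisymm (hq.2.2 ⟨hpp, bot_le⟩ hle) hle
  obtain ⟨a, ha, hap⟩ : ∃ a ∈ O.inf id, a ∉ p := by
    refine Set.not_subset.1 fun hle => ?_
    obtain ⟨q, hq, hqp⟩ := (Ideal.IsPrime.inf_le' hpp).1 (show O.inf id ≤ p from hle)
    exact (hO q hq).2.1 hqp
  obtain ⟨b, hb, hbO⟩ : ∃ b ∈ p, ∀ q ∈ O, b ∉ q := by
    have h : ¬ (p : Set R) ⊆ ⋃ q ∈ (↑O : Set (Ideal R)), (q : Set R) := by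
      rw [Ideal.subset_union_prime ⊥ ⊥ (fun q hq _ _ => (hO q hq).1)]
      rintro ⟨q, hq, hle⟩
      exact (hO q hq).2.2 hle
    obtain ⟨b, hb, hb'⟩ := Set.not_subset.1 h
    exact ⟨b, hb, fun q hq hbq => hb' (Set.mem_biUnion (Finset.mem_coe.2 hq) hbq)⟩
  have haO : ∀ q ∈ O, a ∈ q := fun q hq => Finset.inf_le (f := id) hq ha
  have hcases : ∀ q ∈ minimalPrimes R, q = p ∨ q ∈ O := fun q hq => by
    by_cases h : q = p
    · exact Or.inl h
    · exact Or.inr (Finset.mem_erase.2 ⟨h, hfin.mem_toFinset.2 hq⟩)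
  have hzero : ∀ z : R, (∀ q ∈ minimalPrimes R, z ∈ q) → z = 0 := fun z hz => by
    have : z ∈ nilradical R := by
      rw [nilradical_eq_sInf]
      refine Submodule.mem_sInf.2 fun J hJ => ?_
      have : Ideal.IsPrime J := hJ
      obtain ⟨q, hq, hqJ⟩ := Ideal.exists_minimalPrimes_le (I := (⊥ : Ideal R)) (J := J) bot_le
      exact hqJ (hz q hq)
    exact (mem_nilradical.1 this).eq_zero
  have hab : a * b = 0 := hzero _ fun q hq => by
    rcases hcases q hq with rfl | hq
    · exact Ideal.mul_mem_left _ _ hb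
    · exact Ideal.mul_mem_right _ _ (haO q hq)
  have hs : a + b ∈ R⁰ := by
    rw [mem_nonZeroDivisors_iff_right]
    intro z hz
    refine hzero z fun q hq => ?_
    have hqp : q.IsPrime := hq.1.1
    refine (hqp.mem_or_mem (hz ▸ q.zero_mem : z * (a + b) ∈ q)).resolve_right fun h => ?_
    rcases hcases q hq with rfl | hq
    · exact hap ((Ideal.add_mem_iff_left _ hb).1 h)
    · exact hbO q hq ((Ideal.add_mem_iff_right _ (haO q hq)).1 h)
  let x : Q := IsLocalization.mk' Q a ⟨a + b, hs⟩
  have hx : x * algebraMap R Q (a + b) = algebraMap R Q a := IsLocalization.mk'_spec Q a ⟨a + b, hs⟩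
  have hxx : x * x = x := by
    have hu := IsLocalization.map_units Q (⟨a + b, hs⟩ : R⁰)
    refine (hu.mul hu).mul_left_injective ?_
    show x * x * (algebraMap R Q (a + b) * algebraMap R Q (a + b)) = x * (algebraMap R Q (a + b) * algebraMap R Q (a + b))
    rw [mul_mul_mul_comm, hx, ← mul_assoc, hx, ← map_mul, ← map_mul, mul_add, hab, add_zero]
  obtain ⟨e, he⟩ := hic x ⟨Polynomial.X * (Polynomial.X - Polynomial.C 1),
    Polynomial.monic_X.mul (Polynomial.monic_X_sub_C 1), by simp [mul_sub, hxx]⟩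
  have hee : e * e = e := IsLocalization.injective Q le_rfl (by rw [map_mul, he, hxx])
  have hea : e * (a + b) = a := IsLocalization.injective Q le_rfl (by rw [map_mul, he, hx])
  refine ⟨e, hee, ?_, fun q hq hqp => ?_⟩
  · have h : (1 - e) * (a + b) ∈ p := by rw [sub_mul, one_mul, hea, add_sub_cancel_left]; exact hb
    exact (hpp.mem_or_mem h).resolve_right fun h => hap ((Ideal.add_mem_iff_left _ hb).1 h)
  · rcases hcases q hq with h | hq
    · exact absurd h hqp
    · have hqq := (hO q hq).1
      have h : e * (a + b) ∈ q := by rw [hea]; exact haO q hq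
      exact (hqq.mem_or_mem h).resolve_right fun h => hbO q hq ((Ideal.add_mem_iff_right _ (haO q hq)).1 h)

theorem locNormal_of_isIntegrallyClosedIn [IsReduced R] (hfin : (minimalPrimes R).Finite) (Q : Type v) [CommRing Q]
    [Algebra R Q] [IsLocalization R⁰ Q] (hic : ∀ x : Q, IsIntegral R x → ∃ y, algebraMap R Q y = x) :
    LocNormal R := by
  classical
  intro P hP
  obtain ⟨p, hp, hpP⟩ := Ideal.exists_minimalPrimes_le (I := (⊥ : Ideal R)) (J := P) bot_le
  have hpp : p.IsPrime := hp.1.1
  obtain ⟨e, hee, he1, heq⟩ := exists_idempotent hfin Q hic hp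
  have heP : e ∉ P := fun h => hP.ne_top ((Ideal.eq_top_iff_one _).2 (by simpa using P.add_mem h (hpP he1)))
  have hker : ∀ z ∈ p, e * z = 0 := fun z hz => by
    have : e * z ∈ nilradical R := by
      rw [nilradical_eq_sInf]
      refine Submodule.mem_sInf.2 fun J hJ => ?_
      have : Ideal.IsPrime J := hJ
      obtain ⟨q, hq, hqJ⟩ := Ideal.exists_minimalPrimes_le (I := (⊥ : Ideal R)) (J := J) bot_le
      refine hqJ ?_
      by_cases hqp : q = p
      · exact hqp ▸ Ideal.mul_mem_left _ _ hz
      · exact Ideal.mul_mem_right _ _ (heq q hq hqp)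
    exact (mem_nilradical.1 this).eq_zero
  have he1' : Ideal.Quotient.mk p e = 1 := by
    rw [← map_one (Ideal.Quotient.mk p), eq_comm, Ideal.Quotient.mk_eq_mk_iff_sub_mem]; exact he1
  have hD : IsIntegrallyClosed (R ⧸ p) := by
    let K := FractionRing (R ⧸ p)
    rw [isIntegrallyClosed_iff K]
    intro y hy
    obtain ⟨⟨b, a⟩, hab⟩ := IsLocalization.surj (R ⧸ p)⁰ y
    obtain ⟨b, rfl⟩ := Ideal.Quotient.mk_surjective b
    obtain ⟨a, ha⟩ := Ideal.Quotient.mk_surjective (a : R ⧸ p)
    simp only [← ha] at hab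
    have ha' : a ∉ p := fun h => nonZeroDivisors.coe_ne_zero _ (ha.symm.trans (Ideal.Quotient.eq_zero_iff_mem.2 h))
    have hs : e * a + (1 - e) ∈ R⁰ := by
      rw [mem_nonZeroDivisors_iff_right]
      intro z hz
      have h1 : e * z * a = 0 := by linear_combination e * hz - (z * a - z) * hee
      have h3 : (1 - e) * z = 0 := by linear_combination (1 - e) * hz + (z * a - z) * hee
      have h2 : e * z ∈ p := (hpp.mem_or_mem (h1 ▸ p.zero_mem)).resolve_right ha'
      have h4 : z ∈ p := by
        simpa [sub_mul] using p.add_mem h2 (Ideal.mul_mem_right z p he1)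
      have := hker z h4
      linear_combination h3 + this
    let w : Q := IsLocalization.mk' Q (e * b) ⟨_, hs⟩
    obtain ⟨f, hf, hf0⟩ := hy
    obtain ⟨g, rfl, -, hg⟩ := Polynomial.lifts_and_degree_eq_and_monic
      (Polynomial.mem_lifts _ |>.2 (Polynomial.map_surjective _ Ideal.Quotient.mk_surjective f)) hf
    let φ : R →+* K := (algebraMap (R ⧸ p) K).comp (Ideal.Quotient.mk p)
    let ψ : Q →+* K := IsLocalization.lift (M := R⁰) (g := φ) fun c => by
      rw [isUnit_iff_ne_zero]
      refine (map_ne_zero_iff _ (IsFractionRing.injective (R ⧸ p) K)).2 fun h => ?_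
      obtain ⟨d, hd, hdn⟩ : ∃ d, d * (c : R) = 0 ∧ d ≠ 0 := ⟨e, hker _ (Ideal.Quotient.eq_zero_iff_mem.1 h),
        fun he0 => heP (he0 ▸ P.zero_mem)⟩
      exact hdn (mem_nonZeroDivisors_iff_right.1 c.2 _ hd)
    have hψ : ∀ r, ψ (algebraMap R Q r) = φ r := IsLocalization.lift_eq _
    have hψw : ψ w = y := by
      have h1 := congrArg ψ (IsLocalization.mk'_spec Q (e * b) (⟨_, hs⟩ : R⁰))
      rw [map_mul, hψ, hψ] at h1
      simp only [φ, RingHom.comp_apply, map_add, map_mul, map_sub, map_one, he1', sub_self, add_zero, one_mul] at h1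
      exact mul_right_cancel₀ ((map_ne_zero_iff _ (IsFractionRing.injective (R ⧸ p) K)).2 fun h =>
        ha' (Ideal.Quotient.eq_zero_iff_mem.1 h)) (h1.trans hab.symm)
    have hew : algebraMap R Q e * w = w := by
      rw [IsLocalization.mul_mk'_eq_mk'_of_mul, ← mul_assoc, hee]
    have hint : IsIntegral R w := by
      refine ⟨Polynomial.X * g, Polynomial.monic_X.mul hg, ?_⟩
      rw [Polynomial.eval₂_mul, Polynomial.eval₂_X]
      have key : algebraMap R Q e * Polynomial.eval₂ (algebraMap R Q) w g = 0 := by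
        obtain ⟨⟨c, s⟩, hc⟩ := IsLocalization.surj R⁰ (Polynomial.eval₂ (algebraMap R Q) w g)
        have h1 : ψ (Polynomial.eval₂ (algebraMap R Q) w g) = 0 := by
          rw [Polynomial.hom_eval₂, show ψ.comp (algebraMap R Q) = φ from RingHom.ext hψ, hψw]
          rw [Polynomial.eval₂_map] at hf0
          exact hf0
        have h2 := congrArg ψ hc
        rw [map_mul, h1, zero_mul, hψ] at h2
        have hcp : c ∈ p := Ideal.Quotient.eq_zero_iff_mem.1 (IsFractionRing.injective (R ⧸ p) K
          (h2.symm.trans (map_zero _).symm))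
        refine (IsLocalization.map_units Q s).mul_left_injective ?_
        show _ * algebraMap R Q (s : R) = 0 * algebraMap R Q (s : R)
        rw [zero_mul, mul_assoc, hc, ← map_mul, hker c hcp, map_zero]
      rw [← hew, mul_comm (algebraMap R Q e) w, mul_assoc, mul_comm (algebraMap R Q e)]
      rw [mul_comm (Polynomial.eval₂ _ _ _) _]
      simp only [mul_comm w (algebraMap R Q e), hew, key, mul_zero]
    obtain ⟨r, hr⟩ := hic w hint
    exact ⟨Ideal.Quotient.mk p r, by rw [← hψw, ← hr, hψ]; rfl⟩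
  let RP := Localization.AtPrime P
  let φ : R ⧸ p →+* RP := Ideal.Quotient.lift p (algebraMap R RP) fun z hz =>
    (IsLocalization.map_eq_zero_iff P.primeCompl RP z).2 ⟨⟨e, heP⟩, hker z hz⟩
  let M : Submonoid (R ⧸ p) := P.primeCompl.map (Ideal.Quotient.mk p)
  let _ : Algebra (R ⧸ p) RP := φ.toAlgebra
  have hM : M ≤ (R ⧸ p)⁰ := by
    rintro _ ⟨s, hs, rfl⟩
    exact mem_nonZeroDivisors_of_ne_zero fun h => hs (hpP (Ideal.Quotient.eq_zero_iff_mem.1 h))
  have : IsLocalization M RP :=
    { map_units := by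
        rintro ⟨_, s, hs, rfl⟩
        exact IsLocalization.map_units RP (⟨s, hs⟩ : P.primeCompl)
      surj := fun z => by
        obtain ⟨⟨r, s⟩, hrs⟩ := IsLocalization.surj P.primeCompl z
        exact ⟨⟨Ideal.Quotient.mk p r, ⟨_, s, s.2, rfl⟩⟩, hrs⟩
      exists_of_eq := by
        intro x y hxy
        obtain ⟨x, rfl⟩ := Ideal.Quotient.mk_surjective x
        obtain ⟨y, rfl⟩ := Ideal.Quotient.mk_surjective y
        obtain ⟨s, hs⟩ := IsLocalization.exists_of_eq (M := P.primeCompl) (S := RP) (x := x) (y := y) hxy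
        exact ⟨⟨_, s, s.2, rfl⟩, by simpa only [map_mul] using congrArg (Ideal.Quotient.mk p) hs⟩ }
  exact ⟨IsLocalization.isDomain_of_le_nonZeroDivisors RP hM, isIntegrallyClosed_of_isLocalization RP M hM⟩

section Noetherian

variable [IsNoetherianRing R]

theorem hasRk_mono {k l : ℕ} (h : k ≤ l) (hR : LocCoh.HasRk l R) : LocCoh.HasRk k R :=
  fun p _ hp => hR p (hp.trans (by exact_mod_cast h))

theorem hasSk_mono {k l : ℕ} (h : k ≤ l) (hR : LocCoh.HasSk l R R) : LocCoh.HasSk k R R :=
  fun p _ => (min_le_min_right _ (by exact_mod_cast h)).trans (hR p)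

theorem serre_normal_iff : LocNormal R ↔ LocCoh.HasRk 1 R ∧ LocCoh.HasSk 2 R R := by
  constructor
  · intro h
    have := h.isReduced
    refine ⟨fun p hp hht => ?_, fun p hp => ?_⟩
    · have := (h p).1
      have := (h p).2
      by_cases hF : IsField (Localization.AtPrime p)
      · exact isRegularLocalRing_of_isField _ hF
      have hdim : Ring.KrullDimLE 1 (Localization.AtPrime p) := by
        rw [Ring.krullDimLE_iff, IsLocalization.AtPrime.ringKrullDim_eq_height p]
        exact_mod_cast hht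
      have huniq : ∃! Q : Ideal (Localization.AtPrime p), Q ≠ ⊥ ∧ Q.IsPrime :=
        ⟨maximalIdeal _, ⟨fun h => hF (isField_iff_maximalIdeal_eq.2 h), inferInstance⟩, fun Q hQ =>
          eq_maximalIdeal (Ring.krullDimLE_one_iff_of_isPrime_bot.1 hdim Q hQ.1 hQ.2)⟩
      have hiff : IsIntegrallyClosed (Localization.AtPrime p) ∧ (∃! Q : Ideal (Localization.AtPrime p), Q ≠ ⊥ ∧ Q.IsPrime) ↔
          IsDiscreteValuationRing (Localization.AtPrime p) := (IsDiscreteValuationRing.TFAE _ hF).out 3 0
      have := hiff.1 ⟨inferInstance, huniq⟩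
      rw [IsRegularLocalRing.iff_finrank_cotangentSpace, finrank_CotangentSpace_eq_one,
        IsDiscreteValuationRing.ringKrullDim_eq_one]
      rfl
    · by_cases h2 : p.height ≤ 1
      · refine le_trans ?_ (S1_of_isReduced p)
        rw [SMTLib.supportDim_localized_self, ← WithBot.coe_natCast, ← WithBot.coe_natCast, ← WithBot.coe_min,
          ← WithBot.coe_min, WithBot.coe_le_coe, Nat.cast_one]
        exact le_min ((min_le_right _ _).trans h2) (min_le_right _ _)
      let A := Localization.AtPrime p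
      have : IsDomain A := (h p).1
      have : IsIntegrallyClosed A := (h p).2
      refine (min_le_left _ _).trans ?_
      rw [← WithBot.coe_natCast, WithBot.coe_le_coe, le_depth_iff]
      refine HasSeqIn.congr ((IsLocalizedModule.iso p.primeCompl (Algebra.linearMap R A)).extendScalarsOfIsLocalization
        p.primeCompl A).symm ?_
      have hA : (maximalIdeal A).height = p.height := by
        have h3 := IsLocalization.AtPrime.ringKrullDim_eq_height p A
        rw [← maximalIdeal_height_eq_ringKrullDim] at h3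
        exact_mod_cast h3
      obtain ⟨a, ha, ha0⟩ := Submodule.exists_mem_ne_zero_of_ne_bot (p := maximalIdeal A) fun hm => h2 (by
        rw [← hA, hm, Ideal.height_bot]; exact zero_le)
      refine hasSeqIn_succ_of_cons ha (IsSMulRegular.of_right_eq_zero_of_smul fun x hx =>
        (mul_eq_zero.1 hx).resolve_left ha0) ((hasSeqIn_one_iff _).2 fun Q hQ hle => h2 ?_)
      rw [← LinearEquiv.AssociatedPrimes.eq (SMTLib.quotSpanEquiv a)] at hQ
      rw [← hA]
      exact (Ideal.height_mono hle).trans (height_eq_one_of_mem_associatedPrimes ha0 hQ).le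
  · rintro ⟨h1, h2⟩
    have := isReduced_of_R0_S1 (hasRk_mono zero_le h1) (hasSk_mono one_le_two h2)
    exact locNormal_of_isIntegrallyClosedIn (Ideal.finite_minimalPrimes_of_isNoetherianRing R ⊥) (FractionRing R)
      fun x hx => exists_eq_of_isIntegral_of_R1_S2 h1 h2 _ hx

end Noetherian

end NormalLib
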