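import Groth.Agent.NormalLib.Transfer
import Mathlib.RingTheory.Finiteness.Descent
import Mathlib.RingTheory.Ideal.MinimalPrime.Noetherian
import Mathlib.RingTheory.TensorProduct.Finite
import Mathlib.RingTheory.Flat.FaithfullyFlat.Basic
import Mathlib.RingTheory.Localization.BaseChange
import Mathlib.RingTheory.TensorProduct.Free

/-! Finiteness of integral closures from reduced formal fibres. -/

set_option autoImplicit false

universe u

open scoped TensorProduct nonZeroDivisors

namespace NormalLib

/-- A field generated as a fraction field by the image of a finite-dimensional algebra. -/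
theorem finite_of_fractions {F L : Type u} [Field F] [Field L] [Algebra F L] (D : Subalgebra F L)
    [FiniteDimensional F D] (h : ∀ x : L, ∃ a ∈ D, ∃ b ∈ D, b ≠ 0 ∧ x * b = a) : FiniteDimensional F L := by
  have : Algebra.IsIntegral F D := Algebra.IsIntegral.of_finite F D
  have hfield : IsField D := isField_of_isIntegral_of_isField' (Field.toIsField F)
  refine Module.Finite.of_surjective D.val.toLinearMap fun x => ?_
  obtain ⟨a, ha, b, hb, hb0, hx⟩ := h x
  obtain ⟨c, hc⟩ := hfield.mul_inv_cancel (a := ⟨b, hb⟩) (fun h => hb0 (congrArg Subtype.val h))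
  refine ⟨⟨a, ha⟩ * c, ?_⟩
  show a * (c : L) = x
  rw [← hx, mul_assoc, show b * (c : L) = 1 from congrArg Subtype.val hc, mul_one]

/-- If a faithfully flat Nagata extension has reduced fibre over a finite extension of the fraction field,
then the integral closure is finite. -/
theorem finite_integralClosure_of_isReduced_tensor {A B K K' : Type u} [CommRing A] [IsDomain A] [IsNoetherianRing A]
    [CommRing B] [Algebra A B] [Module.FaithfullyFlat A B] (hB : CAlg.IsNagata B)
    [Field K] [Algebra A K] [IsFractionRing A K]
    [Field K'] [Algebra A K'] [Algebra K K'] [IsScalarTower A K K'] [FiniteDimensional K K']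
    [IsReduced (B ⊗[A] K')] : Module.Finite A (integralClosure A K') := by
  classical
  have := hB.1
  let Y := B ⊗[A] K'
  -- `Y` is noetherian
  have hnY : IsNoetherianRing Y := by
    have h0 : IsNoetherianRing (K ⊗[A] B) := by
      let _ := Algebra.TensorProduct.rightAlgebra (R := A) (A := K) (B := B)
      have := IsLocalization.tensorRight (S := B) K A⁰
      exact IsLocalization.isNoetherianRing (Algebra.algebraMapSubmonoid B A⁰) (K ⊗[A] B) inferInstance
    have h1 : IsNoetherianRing ((K ⊗[A] B) ⊗[K] K') :=
      isNoetherianRing_iff.2 (isNoetherian_of_tower (K ⊗[A] B)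
        (isNoetherian_of_isNoetherianRing_of_finite (K ⊗[A] B) ((K ⊗[A] B) ⊗[K] K')))
    exact isNoetherianRing_of_ringEquiv ((K ⊗[A] B) ⊗[K] K')
      (((Algebra.TensorProduct.comm K (K ⊗[A] B) K').toRingEquiv.trans
        (Algebra.TensorProduct.cancelBaseChange A K K K' B).toRingEquiv).trans
          (Algebra.TensorProduct.comm A K' B).toRingEquiv)
  let ι := {Q : Ideal Y // Q ∈ minimalPrimes Y}
  have : Finite ι := (minimalPrimes.finite_of_isNoetherianRing Y).to_subtype
  have hprime : ∀ Q : ι, (Q.1).IsPrime := fun Q => Q.2.1.1
  let L := fun Q : ι => FractionRing (Y ⧸ Q.1)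
  let φ : ∀ Q : ι, Y →ₐ[B] L Q := fun Q => IsScalarTower.toAlgHom B Y (L Q)
  have hφinj : ∀ y, (∀ Q, φ Q y = 0) → y = 0 := by
    intro y hy
    have : y ∈ nilradical Y := by
      rw [nilradical, Ideal.radical_eq_sInf, Submodule.mem_sInf]
      rintro P ⟨-, hP⟩
      obtain ⟨Q, hQ, hQP⟩ := Ideal.exists_minimalPrimes_le (I := ⊥) (J := P) bot_le
      have h1 := hy ⟨Q, hQ⟩
      have : (Q : Ideal Y).IsPrime := hQ.1.1
      change algebraMap Y (FractionRing (Y ⧸ Q)) y = 0 at h1
      rw [IsScalarTower.algebraMap_apply Y (Y ⧸ Q), map_eq_zero_iff _ (IsFractionRing.injective (Y ⧸ Q) _),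
        Ideal.Quotient.algebraMap_eq, Ideal.Quotient.eq_zero_iff_mem] at h1
      exact hQP h1
    simpa [nilradical_eq_zero] using this
  have hfin : ∀ Q : ι, Module.Finite B (integralClosure B (L Q)) := by
    intro Q
    have := hprime Q
    let q : Ideal B := RingHom.ker (algebraMap B (L Q))
    have : q.IsPrime := RingHom.ker_isPrime _
    let B' := B ⧸ q
    let _ : Algebra B' (L Q) := (RingHom.kerLift (algebraMap B (L Q))).toAlgebra
    have : IsScalarTower B B' (L Q) := IsScalarTower.of_algebraMap_eq fun b => rfl
    have hinjB : Function.Injective (algebraMap B' (L Q)) := RingHom.kerLift_injective _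
    let F := FractionRing B'
    let _ : Algebra F (L Q) := (IsFractionRing.lift hinjB).toAlgebra
    have : IsScalarTower B' F (L Q) := IsScalarTower.of_algebraMap_eq fun b => (IsLocalization.lift_eq _ b).symm
    let ψ : K' →+* L Q := (φ Q).toRingHom.comp (Algebra.TensorProduct.includeRight : K' →ₐ[A] Y).toRingHom
    have hψA : ∀ a : A, ψ (algebraMap A K' a) = algebraMap B (L Q) (algebraMap A B a) := fun a => by
      show φ Q ((Algebra.TensorProduct.includeRight : K' →ₐ[A] Y) (algebraMap A K' a)) = _
      rw [AlgHom.commutes, IsScalarTower.algebraMap_apply A B Y, AlgHom.commutes]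
    have hAF : ∀ a : A, algebraMap F (L Q) (algebraMap B' F (Ideal.Quotient.mk q (algebraMap A B a))) =
        algebraMap B (L Q) (algebraMap A B a) := fun a => by
      rw [← IsScalarTower.algebraMap_apply B' F (L Q)]; rfl
    let b := Module.finBasis K K'
    let D : Subalgebra F (L Q) := Algebra.adjoin F (Set.range fun i => ψ (b i))
    have hK : ∀ k : K, ψ (algebraMap K K' k) ∈ D := by
      intro k
      obtain ⟨a, s, hs, rfl⟩ := IsFractionRing.div_surjective (A := A) k
      rw [map_div₀, map_div₀, ← IsScalarTower.algebraMap_apply, ← IsScalarTower.algebraMap_apply, hψA, hψA, ← hAF,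
        ← hAF, ← map_div₀]
      exact D.algebraMap_mem _
    have hint : ∀ i, IsIntegral F (ψ (b i)) := by
      intro i
      obtain ⟨p, hp, hp'⟩ := Algebra.IsIntegral.isIntegral (R := K) (b i)
      have hAF' : Function.Injective (fun a : A => algebraMap B' F (Ideal.Quotient.mk q (algebraMap A B a))) := by
        intro a a' h
        have h' := congrArg (algebraMap F (L Q)) h
        rw [hAF, hAF, ← hψA, ← hψA] at h'
        exact IsFractionRing.injective A K ((algebraMap K K').injective (by
          rw [← IsScalarTower.algebraMap_apply, ← IsScalarTower.algebraMap_apply]; exact ψ.injective h'))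
      let g : K →+* F := IsFractionRing.lift (g := (algebraMap B' F).comp ((Ideal.Quotient.mk q).comp (algebraMap A B))) hAF'
      have hg : (algebraMap F (L Q)).comp g = ψ.comp (algebraMap K K') := by
        refine IsLocalization.ringHom_ext A⁰ (RingHom.ext fun a => ?_)
        simp only [RingHom.comp_apply]
        rw [IsFractionRing.lift_algebraMap, ← IsScalarTower.algebraMap_apply A K K', hψA]
        exact hAF a
      refine ⟨p.map g, hp.map g, ?_⟩
      rw [Polynomial.eval₂_map, hg, ← Polynomial.hom_eval₂, hp', map_zero]
    have : FiniteDimensional F D :=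
      Module.Finite.iff_fg.2 (fg_adjoin_of_finite (Set.finite_range _) fun x hx => by
        obtain ⟨i, rfl⟩ := hx; exact hint i)
    have hY : ∀ y, φ Q y ∈ D := by
      intro y
      induction y using TensorProduct.induction_on with
      | zero => rw [map_zero]; exact D.zero_mem
      | add u v hu hv => rw [map_add]; exact D.add_mem hu hv
      | tmul c k =>
        have h1 : c ⊗ₜ[A] k = algebraMap B Y c * (1 ⊗ₜ k) := by
          rw [Algebra.TensorProduct.algebraMap_apply, Algebra.TensorProduct.tmul_mul_tmul, one_mul, mul_one]; rfl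
        rw [h1, map_mul, AlgHom.commutes]
        refine D.mul_mem ?_ ?_
        · rw [IsScalarTower.algebraMap_apply B B' (L Q), IsScalarTower.algebraMap_apply B' F (L Q)]
          exact D.algebraMap_mem _
        · show ψ k ∈ D
          rw [← b.sum_repr k, map_sum]
          refine D.sum_mem fun i _ => ?_
          rw [Algebra.smul_def, map_mul]
          exact D.mul_mem (hK _) (Algebra.subset_adjoin ⟨i, rfl⟩)
    have : FiniteDimensional F (L Q) := finite_of_fractions D fun x => by
      obtain ⟨a, s, hs, rfl⟩ := IsFractionRing.div_surjective (A := Y ⧸ Q.1) x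
      obtain ⟨a, rfl⟩ := Ideal.Quotient.mk_surjective a
      obtain ⟨s, rfl⟩ := Ideal.Quotient.mk_surjective s
      have hs0 : algebraMap (Y ⧸ Q.1) (L Q) (Ideal.Quotient.mk Q.1 s) ≠ 0 :=
        (map_ne_zero_iff _ (IsFractionRing.injective (Y ⧸ Q.1) _)).2 (nonZeroDivisors.ne_zero hs)
      exact ⟨_, hY a, _, hY s, hs0, div_mul_cancel₀ _ hs0⟩
    have : Module.Finite B' (integralClosure B' (L Q)) := hB.2 q (L Q) ‹_›
    have : Module.Finite B (integralClosure B' (L Q)) := Module.Finite.trans B' _
    let g : integralClosure B (L Q) →ₗ[B] integralClosure B' (L Q) :=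
      { toFun := fun x => ⟨x, x.2.tower_top⟩
        map_add' := fun _ _ => rfl
        map_smul' := fun a x => Subtype.ext (by simp) }
    exact Module.Finite.of_injective g fun x y hxy =>
      Subtype.ext (congrArg (fun z : integralClosure B' (L Q) => (z : L Q)) hxy)
  let A' := integralClosure A K'
  have : Module.Finite B (B ⊗[A] A') := by
    let e : B ⊗[A] A' →ₐ[B] Y := Algebra.TensorProduct.map (AlgHom.id B B) A'.val
    have he : Function.Injective e := by
      have h0 := Module.Flat.lTensor_preserves_injective_linearMap (M := B) A'.val.toLinearMap Subtype.val_injective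
      intro x y hxy
      exact h0 hxy
    have hi : Algebra.IsIntegral B (B ⊗[A] A') := by
      have : Algebra.IsIntegral A A' := ⟨fun x => (isIntegral_algHom_iff A'.val Subtype.val_injective).1 x.2⟩
      infer_instance
    let g : B ⊗[A] A' →ₗ[B] (Q : ι) → integralClosure B (L Q) :=
      LinearMap.pi fun Q =>
        { toFun := fun x => ⟨φ Q (e x), ((Algebra.IsIntegral.isIntegral x).map e).map (φ Q)⟩
          map_add' := fun x y => Subtype.ext (by simp)
          map_smul' := fun c x => Subtype.ext (by simp) }
    refine Module.Finite.of_injective g ((injective_iff_map_eq_zero g).2 fun x hx => he ?_)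
    rw [map_zero]
    exact hφinj _ fun Q => congrArg Subtype.val (congrFun hx Q)
  exact Module.Finite.of_finite_tensorProduct_of_faithfullyFlat B

end NormalLib
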