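import Groth.Agent.NormalLib.TensorReduced
import Groth.Agent.NormalLib.CompletionTensor
import Groth.Agent.NormalLib.FormalFibre
import Groth.Agent.NormalLib.CompleteLocal
import Mathlib.RingTheory.AdicCompletion.LocalRing

/-! Analytically unramified local rings. -/

set_option autoImplicit false

universe u

open IsLocalRing
open scoped TensorProduct

namespace NormalLib

section Cofinal

variable {C : Type u} [CommRing C] {K J : Ideal C}

/-- Completions along ideals with cofinal powers. -/
theorem exists_injective_completion_of_pow_le (hK : K.FG) (hKJ : K ≤ J) {k : ℕ} (hJK : J ^ k ≤ K) :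
    ∃ f : AdicCompletion J C →+* AdicCompletion K C, Function.Injective f := by
  let H := AdicCompletion K C
  let K' : Ideal H := K.map (algebraMap C H)
  have : IsAdicComplete K' H := AdicRingLib.isAdicComplete_map hK
  have hle : ∀ n, J ^ (k * n) ≤ K ^ n := fun n => by rw [pow_mul]; exact Ideal.pow_right_mono hJK n
  let g : ∀ n, AdicCompletion J C →+* C ⧸ K ^ n := fun n =>
    (Ideal.Quotient.factor (hle n)).comp (AdicCompletion.evalₐ J (k * n)).toRingHom
  let h : ∀ n, C ⧸ K ^ n →+* H ⧸ K' ^ n := fun n => Ideal.quotientMap (K' ^ n) (algebraMap C H)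
    (Ideal.map_le_iff_le_comap.mp (by rw [Ideal.map_pow]))
  have hcompat : ∀ {m n : ℕ} (hmn : m ≤ n),
      (Ideal.Quotient.factorPow K' hmn).comp ((h n).comp (g n)) = (h m).comp (g m) := by
    intro m n hmn
    refine RingHom.ext fun x => ?_
    induction x using AdicCompletion.induction_on with
    | _ f =>
      simp only [h, g, RingHom.comp_apply, AlgHom.toRingHom_eq_coe, RingHom.coe_coe, AdicCompletion.evalₐ_mk,
        Ideal.Quotient.factor_mk, Ideal.quotientMap_mk]
      rw [Ideal.Quotient.mk_eq_mk_iff_sub_mem, ← map_sub, ← Ideal.map_pow]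
      refine Ideal.mem_map_of_mem _ ?_
      have h1 := SModEq.sub_mem.mp (f.2 (Nat.mul_le_mul_left k hmn))
      rw [smul_eq_mul, Ideal.mul_top] at h1
      rw [← neg_sub]; exact neg_mem (hle m h1)
  refine ⟨IsAdicComplete.liftRingHom K' (fun n => (h n).comp (g n)) hcompat, (injective_iff_map_eq_zero _).2 fun x hx => ?_⟩
  refine AdicCompletion.ext_evalₐ fun n => ?_
  have h1 : h n (g n x) = 0 := by
    have := congrArg (Ideal.Quotient.mk (K' ^ n)) hx
    rwa [IsAdicComplete.mk_liftRingHom, map_zero] at this
  induction x using AdicCompletion.induction_on with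
  | _ f =>
    simp only [h, g, RingHom.comp_apply, AlgHom.toRingHom_eq_coe, RingHom.coe_coe, AdicCompletion.evalₐ_mk,
      Ideal.Quotient.factor_mk, Ideal.quotientMap_mk, Ideal.Quotient.eq_zero_iff_mem] at h1
    have h1 := (AdicRingLib.algebraMap_mem_map_pow_iff hK n _).1 (Ideal.map_pow (algebraMap C H) K n ▸ h1)
    rw [map_zero, AdicCompletion.evalₐ_mk, Ideal.Quotient.eq_zero_iff_mem]
    rcases Nat.eq_zero_or_pos k with rfl | hk
    · rw [pow_zero, Ideal.one_eq_top] at hJK
      have hJn : J ^ n = ⊤ := by rw [eq_top_iff.2 (hJK.trans hKJ), Ideal.top_pow]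
      exact hJn.symm ▸ Submodule.mem_top
    · have h2 := SModEq.sub_mem.mp (f.2 (Nat.le_mul_of_pos_left n hk))
      rw [smul_eq_mul, Ideal.mul_top] at h2
      simpa using add_mem h2 (Ideal.pow_right_mono hKJ n h1)

end Cofinal

variable (A : Type u) [CommRing A] [IsLocalRing A] [IsNoetherianRing A]

theorem completion_props :
    IsNoetherianRing (AdicCompletion (maximalIdeal A) A) ∧
      Module.FaithfullyFlat A (AdicCompletion (maximalIdeal A) A) ∧
      CAlg.IsNagata (AdicCompletion (maximalIdeal A) A) ∧
      (maximalIdeal A).map (algebraMap A (AdicCompletion (maximalIdeal A) A)) ≤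
        (⊥ : Ideal (AdicCompletion (maximalIdeal A) A)).jacobson ∧
      ∀ b : AdicCompletion (maximalIdeal A) A, ∃ a : A, b - algebraMap A _ a ∈
        (maximalIdeal A).map (algebraMap A (AdicCompletion (maximalIdeal A) A)) := by
  have hI : (maximalIdeal A).FG := IsNoetherian.noetherian _
  have := AdicRingLib.isNoetherianRing_adicCompletion (maximalIdeal A)
  have := AdicRingLib.isAdicComplete_map hI
  refine ⟨inferInstance, Module.FaithfullyFlat.of_flat_of_isLocalHom, isNagata_of_isAdicComplete_local _,
    IsAdicComplete.le_jacobson_bot _, fun b => ?_⟩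
  obtain ⟨a, ha⟩ := AdicRingLib.exists_sub_mem_map_pow hI 1 b
  exact ⟨a, by rwa [pow_one] at ha⟩

variable {A}

/-- Finite reduced algebras over local Nagata rings are analytically unramified. -/
theorem isReduced_completion_finite (hA : CAlg.IsNagata A) (C : Type u) [CommRing C] [IsReduced C] [Algebra A C]
    [Module.Finite A C] : IsReduced (AdicCompletion ((maximalIdeal A).map (algebraMap A C)) C) := by
  obtain ⟨_, hff, -, hB, hsurj⟩ := completion_props A
  obtain ⟨e, -⟩ := exists_ringEquiv_completion_tensor (maximalIdeal A) C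
  have := isReduced_tensor_of_finite (AdicCompletion (maximalIdeal A) A) (maximalIdeal A) hA hB hsurj C
  exact isReduced_of_injective
    (e.trans (Algebra.TensorProduct.comm A (AdicCompletion (maximalIdeal A) A) C).toRingEquiv) (RingEquiv.injective _)

theorem exists_pow_jacobson_le (C : Type u) [CommRing C] [Algebra A C] [Module.Finite A C] :
    (maximalIdeal A).map (algebraMap A C) ≤ (⊥ : Ideal C).jacobson ∧
      ∃ k, (⊥ : Ideal C).jacobson ^ k ≤ (maximalIdeal A).map (algebraMap A C) := by
  have hint := Algebra.IsIntegral.of_finite A C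
  have : IsNoetherianRing C :=
    isNoetherianRing_iff.2 (isNoetherian_of_tower A (isNoetherian_of_isNoetherianRing_of_finite A C))
  refine ⟨?_, Ideal.exists_pow_le_of_le_radical_of_fg ?_ (IsNoetherian.noetherian _)⟩
  · refine le_sInf fun M ⟨_, hM⟩ => Ideal.map_le_iff_le_comap.2 ?_
    exact (IsLocalRing.eq_maximalIdeal (Ideal.isMaximal_comap_of_isIntegral_of_isMaximal (R := A) M)).ge
  · rw [Ideal.radical_eq_sInf]
    refine le_sInf fun P ⟨hP, hPp⟩ => ?_
    have := hPp
    have hm : (P.comap (algebraMap A C)) = maximalIdeal A :=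
      le_antisymm (IsLocalRing.le_maximalIdeal (Ideal.IsPrime.ne_top inferInstance))
        (Ideal.map_le_iff_le_comap.1 hP)
    exact sInf_le ⟨bot_le, Ideal.isMaximal_of_isIntegral_of_isMaximal_comap (R := A) P (hm ▸ maximalIdeal.isMaximal A)⟩

theorem isReduced_completion_jacobson (hA : CAlg.IsNagata A) (C : Type u) [CommRing C] [IsReduced C] [Algebra A C]
    [Module.Finite A C] : IsReduced (AdicCompletion ((⊥ : Ideal C).jacobson) C) := by
  obtain ⟨h1, k, h2⟩ := exists_pow_jacobson_le (A := A) C
  have := isReduced_completion_finite hA C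
  obtain ⟨f, hf⟩ := exists_injective_completion_of_pow_le (Ideal.FG.map (IsNoetherian.noetherian _) _) h1 h2
  exact isReduced_of_injective f hf

/-- The hypersurface criterion for analytic unramification. -/
theorem isReduced_completion_of_hypersurface [IsDomain A] (x : A) (hx : x ≠ 0) (hxm : x ∈ maximalIdeal A)
    (h : ∀ p ∈ associatedPrimes A (A ⧸ Ideal.span {x}), ∀ (_ : p.IsPrime),
      (maximalIdeal (Localization.AtPrime p)).IsPrincipal ∧
        IsReduced (AdicCompletion ((maximalIdeal A).map (Ideal.Quotient.mk p)) (A ⧸ p))) :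
    IsReduced (AdicCompletion (maximalIdeal A) A) := by
  obtain ⟨_, hff, -, hB, -⟩ := completion_props A
  refine isReduced_of_hypersurface (AdicCompletion (maximalIdeal A) A) x hx (hB (Ideal.mem_map_of_mem _ hxm))
    fun p hp hpp => ?_
  obtain ⟨h1, h2⟩ := h p hp hpp
  refine ⟨h1, ?_⟩
  obtain ⟨e, -⟩ := exists_ringEquiv_completion_tensor (maximalIdeal A) (A ⧸ p)
  have : IsReduced (AdicCompletion ((maximalIdeal A).map (algebraMap A (A ⧸ p))) (A ⧸ p)) := h2
  have : IsReduced (AdicCompletion (maximalIdeal A) A ⊗[A] (A ⧸ p)) := isReduced_of_injective e.symm e.symm.injective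
  exact isReduced_of_injective (Algebra.TensorProduct.quotIdealMapEquivTensorQuot (AdicCompletion (maximalIdeal A) A) p)
    (Algebra.TensorProduct.quotIdealMapEquivTensorQuot (AdicCompletion (maximalIdeal A) A) p).injective

variable (A)

theorem finite_integralClosure_of_isReduced_completion_tensor [IsDomain A] (K K' : Type u) [Field K] [Algebra A K]
    [IsFractionRing A K] [Field K'] [Algebra A K'] [Algebra K K'] [IsScalarTower A K K'] [FiniteDimensional K K']
    [IsReduced (AdicCompletion (maximalIdeal A) A ⊗[A] K')] : Module.Finite A (integralClosure A K') := by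
  obtain ⟨_, hff, hN, -, -⟩ := completion_props A
  exact finite_integralClosure_of_isReduced_tensor (B := AdicCompletion (maximalIdeal A) A) hN (K := K)

theorem isN1_of_isReduced_completion [IsDomain A] [IsReduced (AdicCompletion (maximalIdeal A) A)] :
    CAlg.IsN1 A := by
  let B := AdicCompletion (maximalIdeal A) A
  let K := FractionRing A
  have : IsReduced (K ⊗[A] B) := by
    let _ := Algebra.TensorProduct.rightAlgebra (R := A) (A := K) (B := B)
    have := IsLocalization.tensorRight (S := B) K (nonZeroDivisors A)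
    refine ⟨fun z hz => ?_⟩
    obtain ⟨b, s, rfl⟩ := IsLocalization.exists_mk'_eq (Algebra.algebraMapSubmonoid B (nonZeroDivisors A)) z
    obtain ⟨n, hn⟩ := hz
    rw [← IsLocalization.mk'_pow, IsLocalization.mk'_eq_zero_iff] at hn
    obtain ⟨t, ht⟩ := hn
    have h1 : IsNilpotent ((t : B) * b) := ⟨n + 1, by
      rw [mul_pow, pow_succ (t : B), mul_assoc, pow_succ b, ← mul_assoc (t : B), ht, zero_mul, mul_zero]⟩
    rw [IsLocalization.mk'_eq_zero_iff]
    exact ⟨t, h1.eq_zero⟩
  have : IsReduced (B ⊗[A] K) := isReduced_of_injective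
    (Algebra.TensorProduct.comm A B K) (Algebra.TensorProduct.comm A B K).injective
  exact finite_integralClosure_of_isReduced_completion_tensor A K K

end NormalLib
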