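import Groth.Agent.NormalLib.N1Local

/-! Transfer of the N-2 property along isomorphisms, finite extensions; fields. -/

set_option autoImplicit false

universe u

open scoped nonZeroDivisors TensorProduct

namespace NormalLib

theorem isN2_of_ringEquiv {R S : Type u} [CommRing R] [IsDomain R] [CommRing S] [IsDomain S] (e : R ≃+* S)
    (h : CAlg.IsN2 R) : CAlg.IsN2 S := by
  let _ : Algebra R S := e.toRingHom.toAlgebra
  have : IsLocalization (⊥ : Submonoid R) R := IsLocalization.self (by simp)
  have : IsLocalization (⊥ : Submonoid R) S := IsLocalization.isLocalization_of_algEquiv (⊥ : Submonoid R)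
    (AlgEquiv.ofRingEquiv (f := e) fun q => rfl : R ≃ₐ[R] S)
  exact isN2_of_isLocalization (⊥ : Submonoid R) S h

theorem isN1_of_ringEquiv {R S : Type u} [CommRing R] [IsDomain R] [CommRing S] [IsDomain S] (e : R ≃+* S)
    (h : CAlg.IsN1 R) : CAlg.IsN1 S := by
  let _ : Algebra R S := e.toRingHom.toAlgebra
  have : IsLocalization (⊥ : Submonoid R) R := IsLocalization.self (by simp)
  have : IsLocalization (⊥ : Submonoid R) S := IsLocalization.isLocalization_of_algEquiv (⊥ : Submonoid R)
    (AlgEquiv.ofRingEquiv (f := e) fun q => rfl : R ≃ₐ[R] S)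
  exact isN1_of_isLocalization (⊥ : Submonoid R) S h

theorem finiteDimensional_fractionRing {R S : Type u} [CommRing R] [IsDomain R] [CommRing S] [IsDomain S]
    [Algebra R S] [Module.Finite R S] (KR KS : Type u) [Field KR] [Field KS] [Algebra R KR] [IsFractionRing R KR]
    [Algebra S KS] [IsFractionRing S KS] [Algebra R KS] [IsScalarTower R S KS] [Algebra KR KS]
    [IsScalarTower R KR KS] (hinj : Function.Injective (algebraMap R S)) : FiniteDimensional KR KS := by
  have : IsLocalization (Algebra.algebraMapSubmonoid S R⁰) KS := by
    refine (IsLocalization.iff_of_le_of_exists_dvd _ S⁰ ?_ fun s hs => ?_).2 inferInstance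
    · rintro _ ⟨r, hr, rfl⟩
      exact mem_nonZeroDivisors_of_ne_zero ((map_ne_zero_iff _ hinj).2 (nonZeroDivisors.ne_zero hr))
    · have : Algebra.IsAlgebraic R S := Algebra.IsIntegral.isAlgebraic
      obtain ⟨c, hc, hdvd⟩ := (Algebra.IsAlgebraic.isAlgebraic (R := R) s).exists_nonzero_dvd hs
      exact ⟨_, Algebra.mem_algebraMapSubmonoid_of_mem ⟨c, mem_nonZeroDivisors_of_ne_zero hc⟩, hdvd⟩
  exact Module.Finite.of_isLocalization R S R⁰

theorem isN2_of_finite_injective {R S : Type u} [CommRing R] [IsDomain R] [CommRing S] [IsDomain S]
    [Algebra R S] [Module.Finite R S] (hinj : Function.Injective (algebraMap R S)) (h : CAlg.IsN2 R) :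
    CAlg.IsN2 S := by
  intro L _ _ _ _ hL
  let KR := FractionRing R
  let KS := FractionRing S
  have hRKS : Function.Injective (algebraMap R KS) := by
    rw [IsScalarTower.algebraMap_eq R S KS]; exact (IsFractionRing.injective S KS).comp hinj
  let _ : Algebra KR KS := (IsFractionRing.lift hRKS).toAlgebra
  have : IsScalarTower R KR KS := IsScalarTower.of_algebraMap_eq fun r => (IsLocalization.lift_eq _ r).symm
  have : FiniteDimensional KR KS := finiteDimensional_fractionRing (R := R) (S := S) KR KS hinj
  let _ : Algebra R L := ((algebraMap S L).comp (algebraMap R S)).toAlgebra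
  have : IsScalarTower R S L := IsScalarTower.of_algebraMap_eq' rfl
  let _ : Algebra KR L := ((algebraMap KS L).comp (algebraMap KR KS)).toAlgebra
  have : IsScalarTower KR KS L := IsScalarTower.of_algebraMap_eq' rfl
  have : IsScalarTower R KR L := IsScalarTower.of_algebraMap_eq fun r => by
    show algebraMap S L (algebraMap R S r) = algebraMap KS L (algebraMap KR KS (algebraMap R KR r))
    rw [← IsScalarTower.algebraMap_apply R KR KS, IsScalarTower.algebraMap_apply R S KS,
      ← IsScalarTower.algebraMap_apply S KS L]
  have : Module.Finite R (integralClosure R L) := h L (Module.Finite.trans KS L)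
  have : Algebra.IsIntegral R S := Algebra.IsIntegral.of_finite R S
  let g : integralClosure R L →ₗ[R] integralClosure S L :=
    { toFun := fun x => ⟨x, x.2.tower_top⟩
      map_add' := fun _ _ => rfl
      map_smul' := fun a x => Subtype.ext (by simp) }
  have : Module.Finite R (integralClosure S L) := Module.Finite.of_surjective g fun y =>
    ⟨⟨y, isIntegral_trans (y : L) y.2⟩, rfl⟩
  exact Module.Finite.of_restrictScalars_finite R S _

/-- The N-2 property descends along finite injective extensions. -/
theorem isN2_of_finite_injective_descent {R S : Type u} [CommRing R] [IsDomain R] [IsNoetherianRing R]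
    [CommRing S] [IsDomain S] [Algebra R S] [Module.Finite R S] (hinj : Function.Injective (algebraMap R S))
    (h : CAlg.IsN2 S) : CAlg.IsN2 R := by
  intro L _ _ _ _ hL
  let KR := FractionRing R
  let KS := FractionRing S
  have hRKS : Function.Injective (algebraMap R KS) := by
    rw [IsScalarTower.algebraMap_eq R S KS]; exact (IsFractionRing.injective S KS).comp hinj
  let _ : Algebra KR KS := (IsFractionRing.lift hRKS).toAlgebra
  have : IsScalarTower R KR KS := IsScalarTower.of_algebraMap_eq fun r => (IsLocalization.lift_eq _ r).symm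
  have : FiniteDimensional KR KS := finiteDimensional_fractionRing (R := R) (S := S) KR KS hinj
  let T := L ⊗[KR] KS
  obtain ⟨m, hm⟩ := Ideal.exists_maximal T
  let M := T ⧸ m
  let _ : Field M := Ideal.Quotient.field m
  let ψ : KS →ₐ[KR] M := (Ideal.Quotient.mkₐ KR m).comp Algebra.TensorProduct.includeRight
  let φ : L →ₐ[KR] M := (Ideal.Quotient.mkₐ KR m).comp Algebra.TensorProduct.includeLeft
  let _ : Algebra KS M := ψ.toRingHom.toAlgebra
  have : IsScalarTower KR KS M := IsScalarTower.of_algebraMap_eq' ψ.comp_algebraMap.symm
  have : FiniteDimensional KS M := Module.Finite.of_restrictScalars_finite KR KS M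
  let _ : Algebra S M := ((algebraMap KS M).comp (algebraMap S KS)).toAlgebra
  have : IsScalarTower S KS M := IsScalarTower.of_algebraMap_eq' rfl
  have : Module.Finite S (integralClosure S M) := h M ‹FiniteDimensional KS M›
  have hφR : ∀ r : R, φ (algebraMap R L r) = algebraMap R M r := fun r => by
    rw [IsScalarTower.algebraMap_apply R KR L, AlgHom.commutes, ← IsScalarTower.algebraMap_apply]
  have : IsScalarTower R S M := IsScalarTower.of_algebraMap_eq fun r => by
    show algebraMap R M r = ψ (algebraMap S KS (algebraMap R S r))
    rw [← IsScalarTower.algebraMap_apply R S KS, IsScalarTower.algebraMap_apply R KR KS, AlgHom.commutes,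
      ← IsScalarTower.algebraMap_apply]
  let ι : L →ₐ[R] M := { φ.toRingHom with commutes' := hφR }
  have : Module.Finite R (integralClosure S M) := Module.Finite.trans S _
  let g : integralClosure R M →ₗ[R] integralClosure S M :=
    { toFun := fun x => ⟨x, x.2.tower_top⟩
      map_add' := fun _ _ => rfl
      map_smul' := fun a x => Subtype.ext (by simp) }
  have : Module.Finite R (integralClosure R M) := Module.Finite.of_injective g fun x y hxy =>
    Subtype.ext (congrArg (fun z : integralClosure S M => (z : M)) hxy)
  exact finite_integralClosure_of_injective ι φ.toRingHom.injective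

theorem isN2_of_isField {R : Type u} [CommRing R] [IsDomain R] (hR : IsField R) : CAlg.IsN2 R := by
  intro L _ _ _ _ hL
  let _ : Field R := hR.toField
  have hsurj : Function.Surjective (algebraMap R (FractionRing R)) := fun x => by
    obtain ⟨a, s, hs, rfl⟩ := IsFractionRing.div_surjective (A := R) x
    exact ⟨a / s, map_div₀ (algebraMap R (FractionRing R)) a s⟩
  have : Module.Finite R (FractionRing R) := Module.Finite.of_surjective (Algebra.linearMap R _) hsurj
  have : Module.Finite R L := Module.Finite.trans (FractionRing R) L
  infer_instance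

theorem isNagata_quotient {R : Type u} [CommRing R] (h : CAlg.IsNagata R) (I : Ideal R) :
    CAlg.IsNagata (R ⧸ I) := by
  have := h.1
  refine ⟨inferInstance, fun p _ => ?_⟩
  exact isN2_of_ringEquiv ((DoubleQuot.quotQuotEquivQuotOfLE (I := I) (J := p.comap (Ideal.Quotient.mk I))
      (fun x hx => by simp [Ideal.Quotient.eq_zero_iff_mem.2 hx])).symm.trans
      (Ideal.quotEquivOfEq (Ideal.map_comap_of_surjective _ Ideal.Quotient.mk_surjective p)))
    (h.2 (p.comap (Ideal.Quotient.mk I)))

end NormalLib
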