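import Groth.Agent.NormalLib.N1
import Mathlib.RingTheory.Polynomial.Basic
import Mathlib.RingTheory.Localization.Away.Basic

/-! N-1 and N-2 are local properties. -/

set_option autoImplicit false

universe u v w

open scoped nonZeroDivisors

namespace NormalLib

variable {R : Type u} [CommRing R]

theorem finite_integralClosure_of_algEquiv {L : Type v} {M : Type w} [CommRing L] [CommRing M] [Algebra R L]
    [Algebra R M] (e : L ≃ₐ[R] M) [Module.Finite R (integralClosure R L)] : Module.Finite R (integralClosure R M) := by
  let g : integralClosure R L →ₗ[R] integralClosure R M :=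
    { toFun := fun x => ⟨e x, (show IsIntegral R (x : L) from x.2).map e.toAlgHom⟩
      map_add' := fun x y => Subtype.ext (map_add e _ _)
      map_smul' := fun a x => Subtype.ext (map_smul e a _) }
  exact Module.Finite.of_surjective g fun y =>
    ⟨⟨e.symm y, (show IsIntegral R (y : M) from y.2).map e.symm.toAlgHom⟩, Subtype.ext (e.apply_symm_apply _)⟩

theorem le_nonZeroDivisors_of_isDomain [IsDomain R] (M : Submonoid R) (S : Type v) [CommRing S] [IsDomain S]
    [Algebra R S] [IsLocalization M S] : M ≤ R⁰ := by
  intro m hm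
  refine mem_nonZeroDivisors_of_ne_zero fun h => ?_
  have := IsLocalization.map_units S (⟨m, hm⟩ : M)
  simp only [h, map_zero, isUnit_zero_iff] at this
  exact zero_ne_one this

theorem isN1_of_isLocalization [IsDomain R] (M : Submonoid R) (S : Type u) [CommRing S] [IsDomain S]
    [Algebra R S] [IsLocalization M S] (h : CAlg.IsN1 R) : CAlg.IsN1 S := by
  have hM := le_nonZeroDivisors_of_isDomain M S
  let L := FractionRing R
  let _ : Algebra S L := (IsLocalization.lift (M := M) (g := algebraMap R L) fun m =>
    IsLocalization.map_units L (⟨m, hM m.2⟩ : R⁰)).toAlgebra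
  have : IsScalarTower R S L := IsScalarTower.of_algebraMap_eq' (IsLocalization.lift_comp _).symm
  have : IsFractionRing S L := IsFractionRing.isFractionRing_of_isDomain_of_isLocalization M S L
  have : Module.Finite R (integralClosure R L) := h
  have := exists_finset_integralClosure_localization M S (L := L)
  exact finite_integralClosure_of_algEquiv (IsLocalization.algEquiv S⁰ L (FractionRing S))

theorem isN2_of_isLocalization [IsDomain R] (M : Submonoid R) (S : Type u) [CommRing S] [IsDomain S]
    [Algebra R S] [IsLocalization M S] (h : CAlg.IsN2 R) : CAlg.IsN2 S := by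
  intro L _ _ _ _ hL
  have hM := le_nonZeroDivisors_of_isDomain M S
  let KS := FractionRing S
  let KR := FractionRing R
  let _ : Algebra S KR := (IsLocalization.lift (M := M) (g := algebraMap R KR) fun m =>
    IsLocalization.map_units KR (⟨m, hM m.2⟩ : R⁰)).toAlgebra
  have : IsScalarTower R S KR := IsScalarTower.of_algebraMap_eq' (IsLocalization.lift_comp _).symm
  have : IsFractionRing S KR := IsFractionRing.isFractionRing_of_isDomain_of_isLocalization M S KR
  let e : KR ≃ₐ[R] KS := (IsLocalization.algEquiv S⁰ KR KS).restrictScalars R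
  let _ : Algebra R L := ((algebraMap S L).comp (algebraMap R S)).toAlgebra
  have : IsScalarTower R S L := IsScalarTower.of_algebraMap_eq' rfl
  let _ : Algebra KR L := ((algebraMap KS L).comp e.toRingEquiv.toRingHom).toAlgebra
  have : IsScalarTower R KR L := IsScalarTower.of_algebraMap_eq fun r => by
    show algebraMap S L (algebraMap R S r) = algebraMap KS L (e (algebraMap R KR r))
    rw [e.commutes, IsScalarTower.algebraMap_apply R S KS, ← IsScalarTower.algebraMap_apply S KS L]
  have hfin : FiniteDimensional KR L := by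
    obtain ⟨s, hs⟩ := Module.Finite.fg_top (R := KS) (M := L)
    refine ⟨⟨s, eq_top_iff.2 fun x hxT => ?_⟩⟩
    clear hxT
    have hx : x ∈ Submodule.span KS (s : Set L) := hs ▸ Submodule.mem_top
    induction hx using Submodule.span_induction with
    | mem y hy => exact Submodule.subset_span hy
    | zero => exact zero_mem _
    | add a b _ _ ha hb => exact add_mem ha hb
    | smul c a _ ha =>
      have : c • a = (e.symm c) • a := by
        rw [Algebra.smul_def, Algebra.smul_def]
        show _ = algebraMap KS L (e (e.symm c)) * a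
        rw [e.apply_symm_apply]
      rw [this]
      exact Submodule.smul_mem _ _ ha
  have := h L hfin
  exact exists_finset_integralClosure_localization M S (L := L)

/-- Finiteness of the integral closure is local. -/
theorem finite_integralClosure_of_span_eq_top [IsDomain R] {ι : Type w} [Finite ι] (f : ι → R)
    (hf : Ideal.span (Set.range f) = ⊤) (L : Type v) [CommRing L] [Algebra R L] (Rf : ι → Type*) [∀ i, CommRing (Rf i)]
    [∀ i, Algebra R (Rf i)] [∀ i, IsLocalization.Away (f i) (Rf i)] [∀ i, Algebra (Rf i) L]
    [∀ i, IsScalarTower R (Rf i) L] (h : ∀ i, Module.Finite (Rf i) (integralClosure (Rf i) L)) :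
    Module.Finite R (integralClosure R L) := by
  classical
  have hgen : ∀ i, ∃ s : Finset (integralClosure R L), ∀ c : integralClosure R L, ∃ n : ℕ,
      f i ^ n • c ∈ Submodule.span R (s : Set (integralClosure R L)) := by
    intro i
    obtain ⟨g, hg⟩ := (h i).fg_top
    choose m hm using fun y : integralClosure (Rf i) L =>
      IsIntegral.exists_multiple_integral_of_isLocalization (Submonoid.powers (f i)) (y : L) y.2
    refine ⟨g.image fun y => (⟨(m y : R) • (y : L), hm y⟩ : integralClosure R L), fun c => ?_⟩
    let T : Submodule R L := Submodule.span R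
      ((g.image fun y : integralClosure (Rf i) L => (m y : R) • (y : L)) : Set L)
    have key : ∀ x ∈ Submodule.span (Rf i) (g : Set (integralClosure (Rf i) L)),
        ∃ n : ℕ, f i ^ n • (x : L) ∈ T := by
      intro x hx
      induction hx using Submodule.span_induction with
      | mem y hy =>
        obtain ⟨k, hk⟩ := (m y).2
        exact ⟨k, by rw [show f i ^ k = (m y : R) from hk]; exact Submodule.subset_span (Finset.mem_coe.2 (Finset.mem_image_of_mem _ hy))⟩
      | zero => exact ⟨0, by simp⟩
      | add a b _ _ ha hb =>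
        obtain ⟨n, hn⟩ := ha
        obtain ⟨k, hk⟩ := hb
        refine ⟨n + k, ?_⟩
        rw [AddMemClass.coe_add, smul_add]
        exact add_mem (by rw [pow_add, mul_comm, mul_smul]; exact T.smul_mem _ hn) (by rw [pow_add, mul_smul]; exact T.smul_mem _ hk)
      | smul r a _ ha =>
        obtain ⟨n, hn⟩ := ha
        obtain ⟨r, s, rfl⟩ := IsLocalization.exists_mk'_eq (Submonoid.powers (f i)) r
        obtain ⟨k, hk⟩ := s.2
        refine ⟨n + k, ?_⟩
        have h2 : f i ^ k • ((IsLocalization.mk' (Rf i) r s) • (a : L)) = r • (a : L) := by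
          rw [← algebraMap_smul (Rf i) (f i ^ k), smul_smul, show f i ^ k = (s : R) from hk,
            IsLocalization.mk'_spec', algebraMap_smul]
        rw [SetLike.val_smul, pow_add, mul_smul, h2, smul_comm]
        exact T.smul_mem _ hn
    obtain ⟨n, hn⟩ := key ⟨c, (show IsIntegral R (c : L) from c.2).tower_top⟩
      (hg.symm ▸ Submodule.mem_top)
    refine ⟨n, ?_⟩
    have hT : T = (Submodule.span R ((g.image fun y => (⟨(m y : R) • (y : L), hm y⟩ : integralClosure R L)) :
        Set (integralClosure R L))).map (integralClosure R L).val.toLinearMap := by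
      rw [Submodule.map_span]
      simp only [T, Finset.coe_image, ← Set.image_comp]
      rfl
    rw [hT] at hn
    obtain ⟨z, hz, hzc⟩ := hn
    rwa [show z = f i ^ n • c from Subtype.ext hzc] at hz
  choose s hs using hgen
  have := Fintype.ofFinite ι
  refine ⟨⟨Finset.univ.biUnion s, eq_top_iff.2 fun c _ => ?_⟩⟩
  choose n hn using fun i => hs i c
  refine Submodule.mem_of_span_eq_top_of_smul_pow_mem _ (Set.range f) hf c ?_
  rintro ⟨_, i, rfl⟩
  refine ⟨n i, Submodule.span_mono ?_ (hn i)⟩
  exact Finset.coe_subset.2 (Finset.subset_biUnion_of_mem s (Finset.mem_univ i))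

theorem isN1_of_span_eq_top [IsDomain R] {ι : Type w} [Finite ι] (f : ι → R) (hf : Ideal.span (Set.range f) = ⊤)
    (Rf : ι → Type u) [∀ i, CommRing (Rf i)] [∀ i, IsDomain (Rf i)] [∀ i, Algebra R (Rf i)]
    [∀ i, IsLocalization.Away (f i) (Rf i)] (h : ∀ i, CAlg.IsN1 (Rf i)) : CAlg.IsN1 R := by
  let L := FractionRing R
  have hne : ∀ i, f i ≠ 0 := fun i e => by
    have := IsLocalization.Away.algebraMap_isUnit (S := Rf i) (f i)
    simp only [e, map_zero, isUnit_zero_iff] at this
    exact zero_ne_one this
  let _ : ∀ i, Algebra (Rf i) L := fun i => (IsLocalization.Away.lift (f i) (g := algebraMap R L)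
    (isUnit_iff_ne_zero.2 ((map_ne_zero_iff _ (IsFractionRing.injective R L)).2 (hne i)))).toAlgebra
  have : ∀ i, IsScalarTower R (Rf i) L := fun i => IsScalarTower.of_algebraMap_eq' (IsLocalization.lift_comp _).symm
  refine finite_integralClosure_of_span_eq_top f hf L Rf fun i => ?_
  have : IsFractionRing (Rf i) L := IsFractionRing.isFractionRing_of_isDomain_of_isLocalization (Submonoid.powers (f i)) (Rf i) L
  have : Module.Finite (Rf i) (integralClosure (Rf i) (FractionRing (Rf i))) := h i
  exact finite_integralClosure_of_algEquiv (IsLocalization.algEquiv (Rf i)⁰ (FractionRing (Rf i)) L)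

theorem isN2_of_span_eq_top [IsDomain R] {ι : Type w} [Finite ι] (f : ι → R) (hf : Ideal.span (Set.range f) = ⊤)
    (Rf : ι → Type u) [∀ i, CommRing (Rf i)] [∀ i, IsDomain (Rf i)] [∀ i, Algebra R (Rf i)]
    [∀ i, IsLocalization.Away (f i) (Rf i)] (h : ∀ i, CAlg.IsN2 (Rf i)) : CAlg.IsN2 R := by
  intro L _ _ _ _ hL
  let KR := FractionRing R
  have hne : ∀ i, f i ≠ 0 := fun i e => by
    have := IsLocalization.Away.algebraMap_isUnit (S := Rf i) (f i)
    simp only [e, map_zero, isUnit_zero_iff] at this
    exact zero_ne_one this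
  have hu : ∀ i, IsUnit (algebraMap R L (f i)) := fun i => by
    rw [IsScalarTower.algebraMap_apply R KR L]
    exact (isUnit_iff_ne_zero.2 ((map_ne_zero_iff _ (IsFractionRing.injective R KR)).2 (hne i))).map _
  let _ : ∀ i, Algebra (Rf i) L := fun i => (IsLocalization.Away.lift (f i) (g := algebraMap R L) (hu i)).toAlgebra
  have : ∀ i, IsScalarTower R (Rf i) L := fun i => IsScalarTower.of_algebraMap_eq' (IsLocalization.lift_comp _).symm
  refine finite_integralClosure_of_span_eq_top f hf L Rf fun i => ?_
  let KS := FractionRing (Rf i)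
  let _ : Algebra (Rf i) KR := (IsLocalization.Away.lift (f i) (g := algebraMap R KR)
    (isUnit_iff_ne_zero.2 ((map_ne_zero_iff _ (IsFractionRing.injective R KR)).2 (hne i)))).toAlgebra
  have : IsScalarTower R (Rf i) KR := IsScalarTower.of_algebraMap_eq' (IsLocalization.lift_comp _).symm
  have : IsFractionRing (Rf i) KR :=
    IsFractionRing.isFractionRing_of_isDomain_of_isLocalization (Submonoid.powers (f i)) (Rf i) KR
  let e : KR ≃ₐ[R] KS := (IsLocalization.algEquiv (Rf i)⁰ KR KS).restrictScalars R
  let _ : Algebra KS L := ((algebraMap KR L).comp e.symm.toRingEquiv.toRingHom).toAlgebra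
  have : IsScalarTower (Rf i) KS L := IsScalarTower.of_algebraMap_eq' <|
    IsLocalization.ringHom_ext (Submonoid.powers (f i)) (RingHom.ext fun r => by
      show algebraMap (Rf i) L (algebraMap R (Rf i) r) = algebraMap KR L (e.symm (algebraMap (Rf i) KS (algebraMap R (Rf i) r)))
      rw [← IsScalarTower.algebraMap_apply R (Rf i) KS, e.symm.commutes, ← IsScalarTower.algebraMap_apply R KR L,
        ← IsScalarTower.algebraMap_apply R (Rf i) L])
  refine h i L ?_
  obtain ⟨s, hs⟩ := Module.Finite.fg_top (R := KR) (M := L)
  refine ⟨⟨s, eq_top_iff.2 fun x hxT => ?_⟩⟩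
  clear hxT
  have hx : x ∈ Submodule.span KR (s : Set L) := hs ▸ Submodule.mem_top
  induction hx using Submodule.span_induction with
  | mem y hy => exact Submodule.subset_span hy
  | zero => exact zero_mem _
  | add a b _ _ ha hb => exact add_mem ha hb
  | smul c a _ ha =>
    have : c • a = (e c) • a := by
      rw [Algebra.smul_def, Algebra.smul_def]
      show _ = algebraMap KR L (e.symm (e c)) * a
      rw [e.symm_apply_apply]
    rw [this]
    exact Submodule.smul_mem _ _ ha

theorem isN1_iff [IsDomain R] [IsNoetherianRing R] :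
    CAlg.IsN1 R ↔ (∃ f : R, f ≠ 0 ∧ IsIntegrallyClosed (Localization.Away f)) ∧
      ∀ (m : Ideal R) [m.IsMaximal], CAlg.IsN1 (Localization.AtPrime m) := by
  classical
  let K := FractionRing R
  let C := (integralClosure R K).toSubmodule
  let N₀ : Submodule R K := LinearMap.range (Algebra.linearMap R K)
  have hC : ∀ c, c ∈ C ↔ IsIntegral R c := fun c => Iff.rfl
  constructor
  · intro h
    refine ⟨?_, fun m _ => isN1_of_isLocalization m.primeCompl _ h⟩
    have : Module.Finite R (integralClosure R K) := h
    obtain ⟨s, hs⟩ := Module.Finite.fg_top (R := R) (M := integralClosure R K)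
    obtain ⟨d, hd⟩ := IsLocalization.exist_integer_multiples R⁰ (S := K) s fun c => (c : K)
    refine ⟨d, nonZeroDivisors.coe_ne_zero d, ?_⟩
    have hdC : ∀ c : integralClosure R K, (d : R) • (c : K) ∈ N₀ := by
      intro c
      have hc : c ∈ Submodule.span R (s : Set (integralClosure R K)) := hs ▸ Submodule.mem_top
      induction hc using Submodule.span_induction with
      | mem y hy => exact hd y hy
      | zero => simp
      | add a b _ _ ha hb => rw [AddMemClass.coe_add, smul_add]; exact add_mem ha hb
      | smul r a _ ha => rw [SetLike.val_smul, smul_comm]; exact Submodule.smul_mem _ r ha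
    let Rd := Localization.Away (d : R)
    have hle : Submonoid.powers (d : R) ≤ R⁰ := powers_le_nonZeroDivisors_of_noZeroDivisors (nonZeroDivisors.coe_ne_zero d)
    let _ : Algebra Rd K := (IsLocalization.Away.lift (d : R) (g := algebraMap R K)
      (IsLocalization.map_units K d)).toAlgebra
    have : IsScalarTower R Rd K := IsScalarTower.of_algebraMap_eq' (IsLocalization.lift_comp _).symm
    have : IsDomain Rd := IsLocalization.isDomain_localization hle
    have : IsFractionRing Rd K := IsFractionRing.isFractionRing_of_isDomain_of_isLocalization (Submonoid.powers (d : R)) Rd K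
    refine (isIntegrallyClosed_iff K).2 fun {x} hx => ?_
    obtain ⟨m, hm⟩ := IsIntegral.exists_multiple_integral_of_isLocalization (Submonoid.powers (d : R)) x hx
    obtain ⟨r, hr⟩ := hdC ⟨_, hm⟩
    let t : Submonoid.powers (d : R) := ⟨d, Submonoid.mem_powers _⟩ * m
    refine ⟨IsLocalization.mk' Rd r t, ?_⟩
    have h1 := congrArg (algebraMap Rd K) (IsLocalization.mk'_spec' Rd r t)
    rw [map_mul, ← IsScalarTower.algebraMap_apply R Rd K, ← IsScalarTower.algebraMap_apply R Rd K] at h1
    have hr' : algebraMap R K r = (d : R) • ((m : R) • x) := hr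
    rw [hr', Algebra.smul_def, Algebra.smul_def, ← mul_assoc, ← map_mul] at h1
    exact mul_left_cancel₀ ((map_ne_zero_iff _ (IsFractionRing.injective R K)).2 fun e =>
      nonZeroDivisors.coe_ne_zero (⟨_, hle t.2⟩ : R⁰) e) h1
  · rintro ⟨⟨f, hf, hn⟩, hm⟩
    have hreg : IsSMulRegular K f := IsSMulRegular.of_right_eq_zero_of_smul fun x hx => by
      rw [Algebra.smul_def, mul_eq_zero] at hx
      exact hx.resolve_left ((map_ne_zero_iff _ (IsFractionRing.injective R K)).2 hf)
    have hN₀ : N₀.FG := by
      show (LinearMap.range (Algebra.linearMap R K)).FG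
      rw [← Submodule.map_top]; exact (IsNoetherian.noetherian ⊤).map _
    have hloc : ∀ m : MaximalSpectrum R, ∃ N : Submodule R K, N.FG ∧ N₀ ≤ N ∧ N ≤ C ∧
        ∀ c ∈ C, ∃ t, t ∉ m.asIdeal ∧ t • c ∈ N := by
      intro m
      have := m.isMaximal
      let RP := Localization.AtPrime m.asIdeal
      have : IsFractionRing RP K :=
        IsFractionRing.isFractionRing_of_isDomain_of_isLocalization m.asIdeal.primeCompl RP K
      have : Module.Finite RP (integralClosure RP (FractionRing RP)) := hm m.asIdeal
      have : Module.Finite RP (integralClosure RP K) :=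
        finite_integralClosure_of_algEquiv (IsLocalization.algEquiv RP⁰ (FractionRing RP) K)
      obtain ⟨g, hg⟩ := Module.Finite.fg_top (R := RP) (M := integralClosure RP K)
      choose q hq using fun y : integralClosure RP K =>
        IsIntegral.exists_multiple_integral_of_isLocalization m.asIdeal.primeCompl (y : K) y.2
      let T : Submodule R K := Submodule.span R ((g.image fun y : integralClosure RP K => (q y : R) • (y : K)) : Set K)
      refine ⟨N₀ ⊔ T, hN₀.sup (Submodule.fg_span (Finset.finite_toSet _)), le_sup_left, sup_le ?_ ?_, fun c hc => ?_⟩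
      · rintro _ ⟨r, rfl⟩; exact isIntegral_algebraMap
      · refine Submodule.span_le.2 fun z hz => ?_
        obtain ⟨y, -, rfl⟩ := Finset.mem_image.1 (Finset.mem_coe.1 hz)
        exact hq y
      · have key : ∀ x ∈ Submodule.span RP (g : Set (integralClosure RP K)),
            ∃ t, t ∉ m.asIdeal ∧ t • (x : K) ∈ T := by
          intro x hx
          induction hx using Submodule.span_induction with
          | mem y hy => exact ⟨q y, (q y).2, Submodule.subset_span (Finset.mem_coe.2 (Finset.mem_image_of_mem _ hy))⟩
          | zero => exact ⟨1, fun h => m.isMaximal.ne_top ((Ideal.eq_top_iff_one _).2 h), by simp⟩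
          | add a b _ _ ha hb =>
            obtain ⟨t, ht, hta⟩ := ha
            obtain ⟨t', ht', htb⟩ := hb
            refine ⟨t * t', fun h => ((m.isMaximal.isPrime).mem_or_mem h).elim ht ht', ?_⟩
            rw [AddMemClass.coe_add, smul_add]
            exact add_mem (by rw [mul_comm, mul_smul]; exact T.smul_mem _ hta) (by rw [mul_smul]; exact T.smul_mem _ htb)
          | smul r a _ ha =>
            obtain ⟨t, ht, hta⟩ := ha
            obtain ⟨r, s, rfl⟩ := IsLocalization.exists_mk'_eq m.asIdeal.primeCompl r
            refine ⟨t * s, fun h => ((m.isMaximal.isPrime).mem_or_mem h).elim ht s.2, ?_⟩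
            have h2 : (s : R) • ((IsLocalization.mk' RP r s) • (a : K)) = r • (a : K) := by
              rw [← algebraMap_smul RP (s : R), smul_smul, IsLocalization.mk'_spec', algebraMap_smul]
            rw [SetLike.val_smul, mul_smul, h2, smul_comm]
            exact T.smul_mem _ hta
        obtain ⟨t, ht, htc⟩ := key ⟨c, ((hC c).1 hc).tower_top⟩ (hg.symm ▸ Submodule.mem_top)
        exact ⟨t, ht, Submodule.mem_sup_right htc⟩
    choose N hNfg hN₀le hNC hN using hloc
    let U : MaximalSpectrum R → Set (PrimeSpectrum R) := fun m =>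
      {P | ∀ c ∈ C, ∃ t, t ∉ P.asIdeal ∧ t • c ∈ N m}
    have hU : ∀ m, IsOpen (U m) := fun m => isOpen_setOf_eq_localized f hreg (N m) (hNfg m) C fun c hc => by
      obtain ⟨k, hk⟩ := exists_pow_smul_mem R f hf hn c ((hC c).1 hc)
      exact ⟨k, hN₀le m hk⟩
    have hcov : (Set.univ : Set (PrimeSpectrum R)) ⊆ ⋃ m, U m := by
      intro P _
      obtain ⟨M, hM, hPM⟩ := Ideal.exists_le_maximal P.asIdeal P.isPrime.ne_top
      refine Set.mem_iUnion.2 ⟨⟨M, hM⟩, fun c hc => ?_⟩
      obtain ⟨t, ht, htc⟩ := hN ⟨M, hM⟩ c hc
      exact ⟨t, fun h => ht (hPM h), htc⟩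
    obtain ⟨s, hs⟩ := isCompact_univ.elim_finite_subcover U hU hcov
    let N' : Submodule R K := s.sup N
    have hN' : N' = C := by
      refine le_antisymm (Finset.sup_le fun m _ => hNC m) fun c hc => ?_
      let J : Ideal R := N'.colon {c}
      by_contra hcN
      have hJ : J ≠ ⊤ := fun h => hcN (by
        have : (1 : R) ∈ J := h.symm ▸ Submodule.mem_top
        rwa [Submodule.mem_colon_singleton, one_smul] at this)
      obtain ⟨M, hM, hJM⟩ := Ideal.exists_le_maximal J hJ
      obtain ⟨m, hms, hmU⟩ : ∃ m ∈ s, (⟨M, hM.isPrime⟩ : PrimeSpectrum R) ∈ U m := by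
        simpa using hs (Set.mem_univ (⟨M, hM.isPrime⟩ : PrimeSpectrum R))
      obtain ⟨t, ht, htc⟩ := hmU c hc
      exact ht (hJM (Submodule.mem_colon_singleton.2 (Finset.le_sup (f := N) hms htc)))
    have hfgN : N'.FG := by
      refine Submodule.fg_finset_sup s N fun m _ => hNfg m
    rw [hN'] at hfgN
    exact Module.Finite.iff_fg.2 hfgN

/-- `R` is N-1 when the ring of Laurent polynomials is. -/
theorem isN1_of_isN1_laurent [IsDomain R] [IsNoetherianRing R] (S : Type u) [CommRing S] [IsDomain S]
    [Algebra (Polynomial R) S] [IsLocalization.Away (Polynomial.X : Polynomial R) S] (h : CAlg.IsN1 S) :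
    CAlg.IsN1 R := by
  classical
  let _ : Algebra R S := ((algebraMap (Polynomial R) S).comp Polynomial.C).toAlgebra
  have hRS : Function.Injective (algebraMap (Polynomial R) S) :=
    IsLocalization.injective S (powers_le_nonZeroDivisors_of_noZeroDivisors (Polynomial.X_ne_zero))
  have hRS' : Function.Injective (algebraMap R S) := hRS.comp Polynomial.C_injective
  let L := FractionRing S
  have hRL : Function.Injective (algebraMap R L) := by
    rw [IsScalarTower.algebraMap_eq R S L]; exact (IsFractionRing.injective S L).comp hRS'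
  let K := FractionRing R
  let ψ : K →ₐ[R] L := IsLocalization.liftAlgHom (M := R⁰) (f := Algebra.ofId R L) fun r =>
    isUnit_iff_ne_zero.2 ((map_ne_zero_iff _ hRL).2 (nonZeroDivisors.coe_ne_zero r))
  have : IsNoetherianRing S := IsLocalization.isNoetherianRing (Submonoid.powers (Polynomial.X : Polynomial R)) S inferInstance
  have : Module.Finite S (integralClosure S L) := h
  let φ : integralClosure R K → integralClosure S L := fun c => ⟨ψ c, ((show IsIntegral R (c : K) from c.2).map ψ).tower_top⟩
  obtain ⟨t, ht, hspan⟩ := (Submodule.fg_span_iff_fg_span_finset_subset (Set.range φ)).1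
    (IsNoetherian.noetherian (Submodule.span S (Set.range φ)))
  have ht' : ∀ y ∈ t, ∃ c, φ c = y := fun y hy => ht hy
  choose! l hl using ht'
  refine ⟨⟨t.image l, eq_top_iff.2 fun c _ => ?_⟩⟩
  obtain ⟨d, hd⟩ := IsLocalization.exist_integer_multiples R⁰ (S := K) (insert c (t.image l)) fun c => (c : K)
  choose! r hr using hd
  obtain ⟨a, -, ha⟩ := Submodule.mem_span_finset.1 (hspan ▸ Submodule.subset_span ⟨c, rfl⟩ : φ c ∈ Submodule.span S (t : Set _))
  obtain ⟨b, hb⟩ := IsLocalization.exist_integer_multiples (Submonoid.powers (Polynomial.X : Polynomial R)) t a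
  choose! p hp using hb
  obtain ⟨N, hN⟩ := b.2
  have hψr : ∀ y ∈ insert c (t.image l), algebraMap S L (algebraMap (Polynomial R) S (Polynomial.C (r y))) =
      algebraMap R L d * ψ y := fun y hy => by
    have h1 := congrArg ψ (hr y hy)
    rw [AlgHom.commutes, map_smul, Algebra.smul_def] at h1
    exact h1
  have key : Polynomial.X ^ N * Polynomial.C (r c) = ∑ y ∈ t, p y * Polynomial.C (r (l y)) := by
    refine hRS ((IsFractionRing.injective S L) ?_)
    rw [map_sum, map_sum, map_mul, map_mul, hψr c (Finset.mem_insert_self _ _)]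
    have h2 : ψ c = ∑ y ∈ t, algebraMap S L (a y) * ψ (l y) := by
      have h3 := congrArg (fun z : integralClosure S L => (z : L)) ha
      simp only [AddSubmonoidClass.coe_finsetSum, SetLike.val_smul, Algebra.smul_def] at h3
      rw [show ψ c = (φ c : L) from rfl, ← h3]
      refine Finset.sum_congr rfl fun y hy => ?_
      rw [show ψ (l y) = (φ (l y) : L) from rfl, hl y hy]
      rfl
    rw [h2, Finset.mul_sum, Finset.mul_sum]
    refine Finset.sum_congr rfl fun y hy => ?_
    rw [map_mul, map_mul, hψr (l y) (Finset.mem_insert_of_mem (Finset.mem_image_of_mem l hy)), hp y hy,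
      ← algebraMap_smul S (b : Polynomial R), smul_eq_mul, map_mul, show ((b : Polynomial R)) = Polynomial.X ^ N from hN.symm]
    ring
  have hcoef := congrArg (fun q => Polynomial.coeff q N) key
  simp only [Polynomial.finsetSum_coeff, Polynomial.coeff_mul_C, mul_comm (Polynomial.X ^ N), Polynomial.coeff_C_mul_X_pow,
    if_true] at hcoef
  have hc : c = ∑ y ∈ t, (p y).coeff N • l y := by
    refine Subtype.ext ?_
    have hd0 : algebraMap R K d ≠ 0 := (map_ne_zero_iff _ (IsFractionRing.injective R K)).2 (nonZeroDivisors.coe_ne_zero d)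
    refine mul_left_cancel₀ hd0 ?_
    rw [← Algebra.smul_def, ← hr c (Finset.mem_insert_self _ _), hcoef, map_sum]
    simp only [AddSubmonoidClass.coe_finsetSum, SetLike.val_smul, Finset.mul_sum]
    refine Finset.sum_congr rfl fun y hy => ?_
    rw [map_mul, hr (l y) (Finset.mem_insert_of_mem (Finset.mem_image_of_mem l hy)), Algebra.smul_def, Algebra.smul_def]
    ring
  rw [hc]
  exact Submodule.sum_mem _ fun y hy => Submodule.smul_mem _ _ (Submodule.subset_span (Finset.mem_coe.2 (Finset.mem_image_of_mem l hy)))

end NormalLib
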