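import Groth.Agent.NormalLib.Serre
import Mathlib.RingTheory.TensorProduct.Quotient
import Mathlib.RingTheory.Flat.Basic
import Mathlib.RingTheory.AdicCompletion.Noetherian
import Mathlib.RingTheory.UniqueFactorizationDomain.Multiplicity

/-! The hypersurface criterion for analytic unramification, for an arbitrary flat algebra. -/

set_option autoImplicit false

universe u

open IsLocalRing
open scoped TensorProduct

namespace NormalLib

variable {C : Type u} [CommRing C] [IsDomain C] [IsNoetherianRing C] (B : Type u) [CommRing B] [Algebra C B]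
  [Module.Flat C B]

theorem isSMulRegular_algebra_of_ne_zero {c : C} (hc : c ≠ 0) {b : B} (h : algebraMap C B c * b = 0) : b = 0 :=
  (IsSMulRegular.of_flat (R := C) (S := B) (x := c) (fun a a' h => mul_left_cancel₀ hc h)).right_eq_zero_of_smul
    (by rwa [smul_eq_mul])

omit [IsDomain C] in
theorem dvd_of_dvd_mul_of_forall_associatedPrimes (x : C) (a : B)
    (h : ∀ p ∈ associatedPrimes C (C ⧸ Ideal.span {x}),
      ∃ s, s ∉ p ∧ algebraMap C B x ∣ algebraMap C B s * a) : algebraMap C B x ∣ a := by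
  classical
  let J : Ideal C := ((Ideal.span {algebraMap C B x}).colon {a}).comap (algebraMap C B)
  have hJ : ∀ s, s ∈ J ↔ algebraMap C B x ∣ algebraMap C B s * a := fun s => by
    rw [Ideal.mem_comap, Submodule.mem_colon_singleton, smul_eq_mul, Ideal.mem_span_singleton]
  have hfin := associatedPrimes.finite C (C ⧸ Ideal.span {x})
  obtain ⟨s, hs, hreg⟩ : ∃ s ∈ J, IsSMulRegular (C ⧸ Ideal.span {x}) s := by
    by_contra hcon
    push Not at hcon
    have hsub : (J : Set C) ⊆ ⋃ p ∈ (hfin.toFinset : Set (Ideal C)), (id p : Set C) := by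
      intro s hs
      rw [hfin.coe_toFinset]
      have := biUnion_associatedPrimes_eq_compl_regular C (C ⧸ Ideal.span {x})
      simp only [id]
      rw [this]
      exact hcon s hs
    obtain ⟨p, hp, hle⟩ := (Ideal.subset_union_prime ⊥ ⊥ fun p hp _ _ =>
      (hfin.mem_toFinset.1 hp).isPrime).1 hsub
    obtain ⟨s, hs, hsJ⟩ := h p (hfin.mem_toFinset.1 hp)
    exact hs (hle ((hJ s).2 hsJ))
  let e := Algebra.TensorProduct.quotIdealMapEquivTensorQuot B (Ideal.span {x} : Ideal C)
  have h2 : IsSMulRegular (B ⊗[C] (C ⧸ Ideal.span {x})) s := hreg.lTensor B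
  have h3 : (Ideal.Quotient.mk ((Ideal.span {x}).map (algebraMap C B))) a = 0 := by
    refine e.injective ?_
    rw [map_zero]
    refine h2.right_eq_zero_of_smul ?_
    rw [← algebraMap_smul B s, ← map_smul, Algebra.smul_def, Ideal.Quotient.algebraMap_eq, ← map_mul]
    rw [Ideal.Quotient.eq_zero_iff_mem.2 ?_, map_zero]
    rw [Ideal.map_span, Set.image_singleton, Ideal.mem_span_singleton]
    exact (hJ s).1 hs
  rwa [Ideal.Quotient.eq_zero_iff_mem, Ideal.map_span, Set.image_singleton, Ideal.mem_span_singleton] at h3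

theorem exists_uniformizer (x : C) (hx : x ≠ 0) (p : Ideal C) [p.IsPrime] (hxp : x ∈ p)
    (hprinc : (maximalIdeal (Localization.AtPrime p)).IsPrincipal) :
    ∃ (π : C) (n : ℕ) (T t u : C), π ≠ 0 ∧ T ∉ p ∧ (∀ y ∈ p, π ∣ T * y) ∧ u ∉ p ∧ t * x = u * π ^ n ∧
      t ∉ p ∧ π ∈ p := by
  classical
  let Cp := Localization.AtPrime p
  have : IsDomain Cp := IsLocalization.isDomain_localization p.primeCompl_le_nonZeroDivisors
  have hinj : Function.Injective (algebraMap C Cp) :=
    IsLocalization.injective Cp p.primeCompl_le_nonZeroDivisors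
  obtain ⟨g, hg⟩ := hprinc
  obtain ⟨π, s₀, rfl⟩ := IsLocalization.exists_mk'_eq p.primeCompl g
  have hgπ : maximalIdeal Cp = Ideal.span {algebraMap C Cp π} := by
    rw [hg, ← Ideal.submodule_span_eq]
    refine Ideal.span_singleton_eq_span_singleton.2 ⟨(IsLocalization.map_units Cp s₀).unit, ?_⟩
    exact IsLocalization.mk'_spec Cp π s₀
  have hπ : π ≠ 0 := by
    rintro rfl
    have h1 : algebraMap C Cp x ∈ maximalIdeal Cp :=
      (IsLocalization.AtPrime.to_map_mem_maximal_iff Cp p x).2 hxp
    rw [hgπ, map_zero, Ideal.span_singleton_eq_bot.2 rfl, Submodule.mem_bot] at h1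
    exact hx (hinj (h1.trans (map_zero _).symm))
  have hy : ∀ y ∈ p, ∃ t, t ∉ p ∧ π ∣ t * y := by
    intro y hyp
    have h1 : algebraMap C Cp y ∈ maximalIdeal Cp :=
      (IsLocalization.AtPrime.to_map_mem_maximal_iff Cp p y).2 hyp
    rw [hgπ, Ideal.mem_span_singleton'] at h1
    obtain ⟨w, hw⟩ := h1
    obtain ⟨w, t, rfl⟩ := IsLocalization.exists_mk'_eq p.primeCompl w
    refine ⟨t, t.2, w, hinj ?_⟩
    rw [map_mul, map_mul, ← hw, ← mul_assoc, IsLocalization.mk'_spec', mul_comm]
  obtain ⟨S, hS⟩ := (IsNoetherian.noetherian p : p.FG)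
  choose t ht htd using fun y : S => hy y (hS ▸ Submodule.subset_span y.2)
  have hnot : ∏ y, t y ∉ p := fun h => by
    obtain ⟨y, -, hy⟩ := (Ideal.IsPrime.prod_mem_iff (hp := ‹_›)).1 h
    exact ht y hy
  have hT : ∀ y ∈ p, π ∣ (∏ y, t y) * y := by
    intro y hyp
    rw [← hS] at hyp
    induction hyp using Submodule.span_induction with
    | mem z hz =>
      rw [← Finset.prod_erase_mul _ _ (Finset.mem_univ (⟨z, hz⟩ : S)), mul_assoc]
      exact (htd ⟨z, hz⟩).mul_left _
    | zero => simp
    | add z w _ _ hz hw => rw [mul_add]; exact dvd_add hz hw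
    | smul r z _ hz => rw [smul_eq_mul, mul_left_comm]; exact hz.mul_left _
  have hnu : ¬ IsUnit (algebraMap C Cp π) := fun hu => (maximalIdeal.isMaximal Cp).ne_top
    (by rw [hgπ]; exact Ideal.eq_top_of_isUnit_mem _ (Ideal.mem_span_singleton_self _) hu)
  obtain ⟨n, v, hv, hxv⟩ := WfDvdMonoid.max_power_factor'
    ((map_ne_zero_iff _ hinj).2 hx : algebraMap C Cp x ≠ 0) hnu
  obtain ⟨u, t', rfl⟩ := IsLocalization.exists_mk'_eq p.primeCompl v
  refine ⟨π, n, ∏ y, t y, t', u, hπ, hnot, hT, fun hup => hv ?_, hinj ?_, t'.2, ?_⟩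
  · rw [← Ideal.mem_span_singleton, ← hgπ, IsLocalization.AtPrime.mk'_mem_maximal_iff Cp p u t']
    exact hup
  · rw [map_mul, map_mul, map_pow, hxv, mul_left_comm, IsLocalization.mk'_spec', mul_comm]
  · rw [← IsLocalization.AtPrime.to_map_mem_maximal_iff Cp p, hgπ]
    exact Ideal.mem_span_singleton_self _

/-- The hypersurface criterion for reducedness of a flat algebra. -/
theorem isReduced_of_hypersurface [IsNoetherianRing B] (x : C) (hx : x ≠ 0)
    (hxB : algebraMap C B x ∈ (⊥ : Ideal B).jacobson)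
    (h : ∀ p ∈ associatedPrimes C (C ⧸ Ideal.span {x}), ∀ (_ : p.IsPrime),
      (maximalIdeal (Localization.AtPrime p)).IsPrincipal ∧ IsReduced (B ⧸ p.map (algebraMap C B))) :
    IsReduced B := by
  have hreg : ∀ {c : C}, c ≠ 0 → ∀ {b : B}, IsNilpotent (algebraMap C B c * b) → IsNilpotent b := by
    intro c hc b ⟨k, hk⟩
    rw [mul_pow, ← map_pow] at hk
    exact ⟨k, isSMulRegular_algebra_of_ne_zero B (pow_ne_zero k hc) hk⟩
  have step : ∀ a : B, IsNilpotent a → algebraMap C B x ∣ a := by
    intro a ha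
    refine dvd_of_dvd_mul_of_forall_associatedPrimes B x a fun p hp => ?_
    have := hp.isPrime
    obtain ⟨hprinc, hred⟩ := h p hp inferInstance
    obtain ⟨π, n, T, t, u, hπ, hT, hTd, hu, hx', -, -⟩ :=
      exists_uniformizer x hx p (mem_associatedPrimes_quotient_of_le hp) hprinc
    have hdesc : ∀ k, ∀ a : B, IsNilpotent a → ∃ s, s ∉ p ∧ algebraMap C B π ^ k ∣ algebraMap C B s * a := by
      intro k
      induction k with
      | zero => exact fun a _ => ⟨1, fun h1 => Ideal.IsPrime.ne_top ‹_› ((Ideal.eq_top_iff_one _).2 h1), by simp⟩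
      | succ k ih =>
        intro a ha
        have h1 : a ∈ p.map (algebraMap C B) :=
          Ideal.Quotient.eq_zero_iff_mem.1 (hred.eq_zero _ (ha.map (Ideal.Quotient.mk _)))
        have h2 : algebraMap C B π ∣ algebraMap C B T * a := by
          have hle : p.map (algebraMap C B) ≤ (Ideal.span {algebraMap C B π}).colon {algebraMap C B T} := by
            refine Ideal.map_le_iff_le_comap.2 fun y hy => ?_
            rw [Ideal.mem_comap, Submodule.mem_colon_singleton, smul_eq_mul, Ideal.mem_span_singleton,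
              ← map_mul, mul_comm y T]
            exact map_dvd _ (hTd y hy)
          have h3 := hle h1
          rwa [Submodule.mem_colon_singleton, smul_eq_mul, Ideal.mem_span_singleton, mul_comm] at h3
        obtain ⟨a', ha'⟩ := h2
        obtain ⟨s, hs, a'', ha''⟩ := ih a' (hreg hπ (ha' ▸ (Commute.all _ _).isNilpotent_mul_left ha))
        refine ⟨s * T, fun hm => ((Ideal.IsPrime.mem_or_mem ‹_› hm).elim hs hT), a'', ?_⟩
        rw [map_mul, mul_assoc, ha', mul_left_comm, ha'', pow_succ]
        ring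
    obtain ⟨s, hs, a', ha'⟩ := hdesc n a ha
    refine ⟨u * s, fun hm => ((Ideal.IsPrime.mem_or_mem ‹_› hm).elim hu hs), algebraMap C B t * a', ?_⟩
    rw [map_mul, mul_assoc, ha', ← mul_assoc, ← mul_assoc, ← map_pow, ← map_mul, ← hx', map_mul, mul_comm (algebraMap C B t)]
  have hpow : ∀ k, ∀ a : B, IsNilpotent a → algebraMap C B x ^ k ∣ a := by
    intro k
    induction k with
    | zero => exact fun a _ => by simp
    | succ k ih =>
      intro a ha
      obtain ⟨a', rfl⟩ := step a ha
      rw [pow_succ']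
      exact mul_dvd_mul_left _ (ih a' (hreg hx ha))
  have := IsHausdorff.of_le_jacobson (Ideal.span {algebraMap C B x}) B
    ((Ideal.span_singleton_le_iff_mem _).2 hxB)
  refine ⟨fun a ha => IsHausdorff.haus (I := Ideal.span {algebraMap C B x}) this _ fun k => ?_⟩
  rw [SModEq.zero, smul_eq_mul, Ideal.mul_top, Ideal.span_singleton_pow, Ideal.mem_span_singleton]
  exact hpow k a ha

end NormalLib
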