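import Mathlib.RingTheory.PowerSeries.Inverse
import Mathlib.RingTheory.PowerSeries.Ideal
import Mathlib.RingTheory.IntegralClosure.IsIntegral.AlmostIntegral
import Mathlib.RingTheory.IntegralClosure.IntegrallyClosed
import Mathlib.RingTheory.Polynomial.RationalRoot

/-! Normality of power series rings over noetherian normal domains. -/

set_option autoImplicit false

universe u

open PowerSeries

open scoped nonZeroDivisors

namespace NormalLib

variable {R : Type u} [CommRing R] [IsDomain R] {K : Type u} [Field K] [Algebra R K] [FaithfulSMul R K]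

theorem isAlmostIntegral_constantCoeff {h : PowerSeries K} (hh : IsAlmostIntegral (PowerSeries R) h) :
    IsAlmostIntegral R (constantCoeff h) := by
  obtain ⟨d, hd, hd'⟩ := hh
  have hd0 : d ≠ 0 := nonZeroDivisors.ne_zero hd
  refine ⟨coeff d.order.toNat d, mem_nonZeroDivisors_of_ne_zero (coeff_order hd0), fun n => ?_⟩
  obtain ⟨r, hr⟩ := hd' n
  refine ⟨coeff d.order.toNat r, ?_⟩
  have h1 := congrArg (coeff d.order.toNat) hr
  rw [algebraMap_apply'', coeff_map, Algebra.smul_def, algebraMap_apply'', coeff_mul,
    Finset.sum_eq_single (d.order.toNat, 0)] at h1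
  · rw [h1, Algebra.smul_def, coeff_map, coeff_zero_eq_constantCoeff, map_pow]
  · rintro ⟨i, j⟩ hij hne
    rw [Finset.HasAntidiagonal.mem_antidiagonal] at hij
    rw [coeff_map, coeff_of_lt_order_toNat i (lt_of_le_of_ne (by omega) fun hi => hne ?_), map_zero, zero_mul]
    exact Prod.ext hi (by show j = 0; omega)
  · intro hne
    exact absurd (Finset.HasAntidiagonal.mem_antidiagonal.2 (add_zero _)) hne

theorem isIntegral_coeff_of_isAlmostIntegral [IsNoetherianRing R] (k : ℕ) :
    ∀ h : PowerSeries K, IsAlmostIntegral (PowerSeries R) h → IsIntegral R (coeff k h) := by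
  induction k with
  | zero =>
    intro h hh
    rw [coeff_zero_eq_constantCoeff]
    exact (isAlmostIntegral_constantCoeff hh).isIntegral
  | succ k ih =>
    intro h hh
    have hC : IsAlmostIntegral (PowerSeries R) (C (constantCoeff h)) := by
      obtain ⟨r, hr, hr'⟩ := isAlmostIntegral_constantCoeff hh
      refine ⟨C r, mem_nonZeroDivisors_of_ne_zero fun h0 => nonZeroDivisors.ne_zero hr ?_, fun n => ?_⟩
      · simpa using congrArg constantCoeff h0
      · obtain ⟨s, hs⟩ := hr' n
        refine ⟨C s, ?_⟩
        rw [algebraMap_apply'', map_C, hs, Algebra.smul_def, Algebra.smul_def, algebraMap_apply'', map_C,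
          map_mul, map_pow]
    have hsub : IsAlmostIntegral (PowerSeries R) (h - C (constantCoeff h)) :=
      (completeIntegralClosure (PowerSeries R) (PowerSeries K)).sub_mem hh hC
    rw [sub_const_eq_X_mul_shift] at hsub
    have hshift : IsAlmostIntegral (PowerSeries R) (mk fun p => coeff (p + 1) h : PowerSeries K) := by
      obtain ⟨d, hd, hd'⟩ := hsub
      refine ⟨d, hd, fun n => ?_⟩
      obtain ⟨r, hr⟩ := hd' n
      refine ⟨mk fun i => coeff (i + n) r, ?_⟩
      ext i
      have h1 := congrArg (coeff (i + n)) hr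
      rw [algebraMap_apply'', coeff_map, mul_pow, ← mul_smul_comm, coeff_X_pow_mul] at h1
      rw [algebraMap_apply'', coeff_map, coeff_mk, h1]
    have h2 := ih _ hshift
    rwa [coeff_mk] at h2

theorem mem_range_of_isAlmostIntegral [IsNoetherianRing R] [IsIntegrallyClosedIn R K] {h : PowerSeries K}
    (hh : IsAlmostIntegral (PowerSeries R) h) : h ∈ (algebraMap (PowerSeries R) (PowerSeries K)).range := by
  choose r hr using fun k => IsIntegrallyClosedIn.algebraMap_eq_of_integral
    (isIntegral_coeff_of_isAlmostIntegral (R := R) k h hh)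
  exact ⟨mk r, PowerSeries.ext fun k => by rw [algebraMap_apply'', coeff_map, coeff_mk, hr]⟩

theorem isIntegrallyClosed_powerSeries (R : Type u) [CommRing R] [IsDomain R] [IsNoetherianRing R]
    [IsIntegrallyClosed R] : IsIntegrallyClosed (PowerSeries R) := by
  let K := FractionRing R
  let A := PowerSeries R
  let B := PowerSeries K
  have hinj : Function.Injective (algebraMap A B) := map_injective _ (IsFractionRing.injective R K)
  let KA := FractionRing A
  let KB := FractionRing B
  have hAB : Function.Injective (algebraMap A KB) := by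
    rw [IsScalarTower.algebraMap_eq A B KB]; exact (IsFractionRing.injective B KB).comp hinj
  let φ : KA →ₐ[A] KB := IsFractionRing.liftAlgHom (g := Algebra.ofId A KB) hAB
  rw [isIntegrallyClosed_iff KA]
  intro x hx
  obtain ⟨h, hh⟩ := (isIntegrallyClosed_iff KB).1 (inferInstance : IsIntegrallyClosed B) (x := φ x)
    (hx.map φ).tower_top
  have halm : IsAlmostIntegral A h := by
    obtain ⟨r, hr, hr'⟩ := hx.isAlmostIntegral
    refine ⟨r, hr, fun n => ?_⟩
    obtain ⟨s, hs⟩ := hr' n
    refine ⟨s, IsFractionRing.injective B KB ?_⟩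
    have h1 := congrArg φ hs
    rw [AlgHom.commutes, map_smul, map_pow, ← hh] at h1
    rw [← IsScalarTower.algebraMap_apply, h1, Algebra.smul_def, Algebra.smul_def, map_mul, map_pow,
      ← IsScalarTower.algebraMap_apply]
  obtain ⟨s, hs⟩ := mem_range_of_isAlmostIntegral halm
  refine ⟨s, φ.toRingHom.injective ?_⟩
  show φ (algebraMap A KA s) = φ x
  rw [AlgHom.commutes, ← hh, ← hs, ← IsScalarTower.algebraMap_apply]

end NormalLib
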