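import Groth.Agent.NormalLib.N1Local
import Groth.Agent.CompleteLib.Basic
import Mathlib.FieldTheory.PurelyInseparable.Exponent
import Mathlib.LinearAlgebra.Dimension.Finite
import Mathlib.FieldTheory.IsAlgClosed.AlgebraicClosure

/-! Tate's theorem on complete N-2 rings. -/

set_option autoImplicit false

universe u

open scoped nonZeroDivisors

namespace NormalLib

/-- The key step in Tate's theorem: a purely inseparable extension containing a `q`-th root of `x`. -/
theorem finite_integralClosure_of_root {R : Type u} [CommRing R] [IsDomain R] [IsNoetherianRing R]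
    [IsIntegrallyClosed R] (x : R) (hx0 : x ≠ 0) [hxp : (Ideal.span ({x} : Set R)).IsPrime]
    (h2 : CAlg.IsN2 (R ⧸ Ideal.span ({x} : Set R))) [IsAdicComplete (Ideal.span ({x} : Set R)) R]
    (K : Type u) [Field K] [Algebra R K] [IsFractionRing R K] (L : Type u) [Field L] [Algebra K L]
    [Algebra R L] [IsScalarTower R K L] [FiniteDimensional K L] (q : ℕ) (hq : 0 < q)
    (hpow : ∀ y : L, y ^ q ∈ (algebraMap K L).range) (π : L) (hπ : π ^ q = algebraMap R L x) :
    Module.Finite R (integralClosure R L) := by
  classical
  let I : Ideal R := Ideal.span {x}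
  let B := integralClosure R L
  have hRL : Function.Injective (algebraMap R L) := by
    rw [IsScalarTower.algebraMap_eq R K L]; exact (algebraMap K L).injective.comp (IsFractionRing.injective R K)
  have hred : ∀ y : B, ∃ r : R, (y : L) ^ q = algebraMap R L r := fun y => by
    obtain ⟨k, hk⟩ := hpow y
    have hint : IsIntegral R ((y : L) ^ q) := (show IsIntegral R (y : L) from y.2).pow q
    rw [← hk] at hint
    obtain ⟨r, hr⟩ := (isIntegrallyClosed_iff K).1 ‹IsIntegrallyClosed R›
      ((isIntegral_algebraMap_iff (algebraMap K L).injective).1 hint)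
    exact ⟨r, by rw [← hk, ← hr, ← IsScalarTower.algebraMap_apply]⟩
  choose N hN using hred
  have hπi : IsIntegral R π := IsIntegral.of_pow hq (by rw [hπ]; exact isIntegral_algebraMap)
  let p : B := ⟨π, hπi⟩
  have hp0 : π ≠ 0 := fun h => hx0 (hRL (by rw [← hπ, h, zero_pow hq.ne', map_zero]))
  let P : Ideal B := Ideal.span {p}
  have hP : ∀ y : B, y ∈ P ↔ N y ∈ I := fun y => by
    rw [Ideal.mem_span_singleton', Ideal.mem_span_singleton']
    constructor
    · rintro ⟨z, rfl⟩
      refine ⟨N z, hRL ?_⟩
      have h1 := hN (z * p)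
      rw [show ((z * p : B) : L) = (z : L) * π from rfl, mul_pow, hN z, hπ, ← map_mul] at h1
      exact h1
    · rintro ⟨s, hs⟩
      have hy : ((y : L) / π) ^ q = algebraMap R L s := by
        rw [div_pow, hN y, ← hs, hπ, map_mul, mul_div_assoc, div_self ((map_ne_zero_iff _ hRL).2 hx0), mul_one]
      refine ⟨⟨(y : L) / π, IsIntegral.of_pow hq (by rw [hy]; exact isIntegral_algebraMap)⟩, Subtype.ext ?_⟩
      exact div_mul_cancel₀ _ hp0
  have hNmul : ∀ y z : B, N (y * z) = N y * N z := fun y z => hRL (by
    rw [map_mul, ← hN, ← hN, ← hN, ← mul_pow]; rfl)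
  have hNalg : ∀ r : R, N (algebraMap R B r) = r ^ q := fun r => hRL (by rw [← hN, map_pow]; rfl)
  have hPp : P.IsPrime := by
    refine ⟨fun h => hxp.ne_top ((Ideal.eq_top_iff_one _).2 ?_), fun {y z} hyz => ?_⟩
    · have h1 : N 1 = 1 := hRL (by rw [← hN, map_one]; exact one_pow q)
      exact h1 ▸ (hP 1).1 ((Ideal.eq_top_iff_one _).1 h)
    · rw [hP, hNmul] at hyz
      exact (hxp.mem_or_mem hyz).imp (hP y).2 (hP z).2
  let D := B ⧸ P
  have hIP : ∀ r : R, algebraMap R B r ∈ P ↔ r ∈ I := fun r => by
    rw [hP, hNalg]; exact ⟨hxp.mem_of_pow_mem q, fun h => I.pow_mem_of_mem h q hq⟩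
  let φ : R ⧸ I →+* D := Ideal.Quotient.lift I ((Ideal.Quotient.mk P).comp (algebraMap R B)) fun r hr =>
    Ideal.Quotient.eq_zero_iff_mem.2 ((hIP r).2 hr)
  let _ : Algebra (R ⧸ I) D := φ.toAlgebra
  have : IsScalarTower R (R ⧸ I) D := IsScalarTower.of_algebraMap_eq fun r => rfl
  have hφ : Function.Injective (algebraMap (R ⧸ I) D) := by
    rw [injective_iff_map_eq_zero]
    intro r hr
    obtain ⟨r, rfl⟩ := Ideal.Quotient.mk_surjective r
    exact Ideal.Quotient.eq_zero_iff_mem.2 ((hIP r).1 (Ideal.Quotient.eq_zero_iff_mem.1 hr))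
  have hDint : Algebra.IsIntegral (R ⧸ I) D := ⟨fun d => by
    obtain ⟨b, rfl⟩ := Ideal.Quotient.mk_surjective d
    have hb : IsIntegral R b := (isIntegral_algHom_iff B.val Subtype.val_injective).1 b.2
    exact (hb.map (Ideal.Quotient.mkₐ R P)).tower_top⟩
  let κ := FractionRing (R ⧸ I)
  let E := FractionRing D
  have hE : Function.Injective (algebraMap (R ⧸ I) E) := by
    rw [IsScalarTower.algebraMap_eq (R ⧸ I) D E]; exact (IsFractionRing.injective D E).comp hφ
  let _ : Algebra κ E := (IsFractionRing.lift hE).toAlgebra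
  have : IsScalarTower (R ⧸ I) κ E := IsScalarTower.of_algebraMap_eq fun r =>
    (IsLocalization.lift_eq _ r).symm
  have hscale : ∀ e : E, ∃ c : R ⧸ I, c ≠ 0 ∧ ∃ d : D, algebraMap (R ⧸ I) E c * e = algebraMap D E d := by
    intro e
    obtain ⟨a, s, hs, rfl⟩ := IsFractionRing.div_surjective (A := D) e
    have hs0 : s ≠ 0 := nonZeroDivisors.ne_zero hs
    obtain ⟨c, hc, t, ht⟩ := (Algebra.IsAlgebraic.isAlgebraic (R := R ⧸ I) s).exists_nonzero_dvd hs
    refine ⟨c, hc, t * a, ?_⟩
    rw [IsScalarTower.algebraMap_apply (R ⧸ I) D E, ht, map_mul, map_mul]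
    rw [mul_assoc, mul_left_comm, mul_div_cancel₀ _ ((map_ne_zero_iff _ (IsFractionRing.injective D E)).2 hs0)]
  have hfinE : FiniteDimensional κ E := by
    have hrank : Module.rank κ E ≤ Module.finrank K L := rank_le fun s hs => by
      choose c hc d hd using fun e : s => hscale (e : E)
      choose b hb using fun e : s => Ideal.Quotient.mk_surjective (d e)
      have hli : ∀ n, ∀ g : s → R, ∑ e, algebraMap R L (g e) * (b e : L) = 0 → ∀ e, g e ∈ I ^ n := by
        intro n
        induction n with
        | zero => intro g _ e; simp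
        | succ n ih =>
          intro g hg
          have hdiv : ∀ e, ∃ g' : R, g e = x ^ n * g' := fun e => by
            have := ih g hg e
            rw [Ideal.span_singleton_pow, Ideal.mem_span_singleton] at this
            exact this
          choose g' hg' using hdiv
          have h0 : ∑ e, algebraMap R L (g' e) * (b e : L) = 0 := by
            refine mul_left_cancel₀ ((map_ne_zero_iff _ hRL).2 (pow_ne_zero n hx0)) ?_
            rw [mul_zero, Finset.mul_sum, ← hg]
            exact Finset.sum_congr rfl fun e _ => by rw [hg', map_mul, mul_assoc]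
          have h1 : ∑ e, algebraMap R B (g' e) * b e = 0 := Subtype.ext (by
            rw [AddSubmonoidClass.coe_finsetSum]; exact h0)
          have h2 : ∑ e, algebraMap (R ⧸ I) D (Ideal.Quotient.mk I (g' e)) * d e = 0 := by
            have := congrArg (Ideal.Quotient.mk P) h1
            rw [map_sum, map_zero] at this
            rw [← this]
            refine Finset.sum_congr rfl fun e _ => ?_
            rw [map_mul, hb]
            rfl
          have h3 : ∑ e : s, (algebraMap (R ⧸ I) κ (Ideal.Quotient.mk I (g' e) * c e)) • (e : E) = 0 := by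
            have := congrArg (algebraMap D E) h2
            rw [map_sum, map_zero] at this
            rw [← this]
            refine Finset.sum_congr rfl fun e _ => ?_
            rw [algebraMap_smul, Algebra.smul_def, map_mul, map_mul, mul_assoc, hd e,
              ← IsScalarTower.algebraMap_apply]
          intro e
          have h4 := Fintype.linearIndependent_iff.1 hs _ h3 e
          rw [map_eq_zero_iff _ (IsFractionRing.injective (R ⧸ I) κ), mul_eq_zero] at h4
          rw [hg' e, pow_succ]
          refine Ideal.mul_mem_mul (Ideal.pow_mem_pow (Ideal.mem_span_singleton_self x) n) ?_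
          exact Ideal.Quotient.eq_zero_iff_mem.1 (h4.resolve_right (hc e))
      have hind : LinearIndependent K fun e : s => (b e : L) := by
        rw [← LinearIndependent.iff_fractionRing R K, Fintype.linearIndependent_iff]
        intro g hg e
        refine IsHausdorff.haus (I := I) (M := R) inferInstance _ fun n => ?_
        rw [SModEq.zero, smul_eq_mul, Ideal.mul_top]
        refine hli n g ?_ e
        simpa [Algebra.smul_def] using hg
      simpa using hind.fintype_card_le_finrank
    exact Module.rank_lt_aleph0_iff.1 (lt_of_le_of_lt hrank Cardinal.natCast_lt_aleph0)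
  have hfinIC : Module.Finite (R ⧸ I) (integralClosure (R ⧸ I) E) := h2 E hfinE
  have hfinD : Module.Finite R D := by
    let g : D →ₗ[R ⧸ I] integralClosure (R ⧸ I) E :=
      { toFun := fun d => ⟨algebraMap D E d, (Algebra.IsIntegral.isIntegral d).algebraMap⟩
        map_add' := fun a b => Subtype.ext (map_add _ _ _)
        map_smul' := fun r a => Subtype.ext (by
          show algebraMap D E (r • a) = r • algebraMap D E a
          rw [Algebra.smul_def, Algebra.smul_def, map_mul, ← IsScalarTower.algebraMap_apply]) }
    have : Module.Finite (R ⧸ I) D :=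
      Module.Finite.of_injective g fun a b h => IsFractionRing.injective D E (congrArg Subtype.val h)
    exact Module.Finite.trans (R ⧸ I) D
  obtain ⟨s, hs⟩ := hfinD.fg_top
  choose l hl using fun d : D => Ideal.Quotient.mk_surjective d
  let S : Finset B := s.image l
  let T : ℕ → Submodule R B := fun i => Submodule.span R
    (⋃ j ∈ Finset.range i, (fun y => p ^ j * y) '' (S : Set B))
  have hT : ∀ i, ∀ y : B, ∃ t ∈ T i, ∃ z : B, y = t + p ^ i * z := by
    intro i
    induction i with
    | zero => exact fun y => ⟨0, zero_mem _, y, by simp⟩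
    | succ i ih =>
      intro y
      obtain ⟨t, ht, z, rfl⟩ := ih y
      have hz : (Ideal.Quotient.mk P z : D) ∈
          Submodule.map (Ideal.Quotient.mkₐ R P).toLinearMap (Submodule.span R (S : Set B)) := by
        rw [Submodule.map_span, Finset.coe_image, ← Set.image_comp]
        have : (Ideal.Quotient.mkₐ R P).toLinearMap ∘ l = id := funext hl
        rw [this, Set.image_id, hs]
        exact Submodule.mem_top
      obtain ⟨w, hw, hwz⟩ := hz
      obtain ⟨v, hv⟩ := Ideal.mem_span_singleton'.1 (Ideal.Quotient.eq.1 hwz.symm : z - w ∈ P)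
      refine ⟨t + p ^ i * w, add_mem (Submodule.span_mono (Set.biUnion_subset_biUnion_left fun j hj => ?_) ht) ?_, v, ?_⟩
      · exact Finset.range_mono i.le_succ hj
      · have h1 := Submodule.mem_map_of_mem (f := LinearMap.mulLeft R (p ^ i)) hw
        rw [Submodule.map_span] at h1
        refine Submodule.span_mono ?_ h1
        rintro _ ⟨a, ha, rfl⟩
        exact Set.mem_biUnion (Finset.self_mem_range_succ i) ⟨a, ha, rfl⟩
      · rw [pow_succ, mul_assoc, mul_comm p v, hv]; ring
  have hpq : p ^ q = algebraMap R B x := Subtype.ext hπ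
  have hquot : Module.Finite R (B ⧸ (I • ⊤ : Submodule R B)) := by
    have hfg : (T q).FG := Submodule.fg_span (Set.Finite.biUnion (Finset.finite_toSet _) fun j _ => (Finset.finite_toSet S).image _)
    have : Module.Finite R (T q) := Module.Finite.iff_fg.2 hfg
    refine Module.Finite.of_surjective ((Submodule.mkQ _).comp (T q).subtype) fun y => ?_
    obtain ⟨y, rfl⟩ := Submodule.Quotient.mk_surjective _ y
    obtain ⟨t, ht, z, rfl⟩ := hT q y
    refine ⟨⟨t, ht⟩, ?_⟩
    show Submodule.Quotient.mk t = Submodule.Quotient.mk _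
    rw [Submodule.Quotient.eq, sub_add_cancel_left, neg_mem_iff, hpq, ← Algebra.smul_def]
    exact Submodule.smul_mem_smul (Ideal.mem_span_singleton_self x) Submodule.mem_top
  have : IsHausdorff I B := ⟨fun y hy => by
    have hmem : ∀ n, N y ∈ I ^ n := fun n => by
      have h1 := SModEq.zero.1 (hy n)
      rw [Ideal.span_singleton_pow, Submodule.ideal_span_singleton_smul] at h1
      obtain ⟨z, -, hz⟩ := h1
      have hz' : algebraMap R B (x ^ n) * z = y := by
        rw [← Algebra.smul_def]; exact hz
      rw [← hz', hNmul, hNalg, ← pow_mul, Ideal.span_singleton_pow, Ideal.mem_span_singleton]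
      exact Dvd.dvd.mul_right (pow_dvd_pow x (Nat.le_mul_of_pos_right n hq)) _
    have h0 : N y = 0 := IsHausdorff.haus (I := I) (M := R) inferInstance _ fun n => by
      rw [SModEq.zero, smul_eq_mul, Ideal.mul_top]; exact hmem n
    have := hN y
    rw [h0, map_zero, pow_eq_zero_iff hq.ne'] at this
    exact Subtype.ext this⟩
  exact CompleteLib.finite_of_quotient_finite (I := I) hquot

/-- Tate's theorem. -/
theorem isN2_of_complete_of_quotient_isN2 {R : Type u} [CommRing R] [IsDomain R] [IsNoetherianRing R]
    [IsIntegrallyClosed R] (x : R) [(Ideal.span ({x} : Set R)).IsPrime]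
    (h2 : CAlg.IsN2 (R ⧸ Ideal.span ({x} : Set R))) [IsAdicComplete (Ideal.span ({x} : Set R)) R] :
    CAlg.IsN2 R := by
  by_cases hx0 : x = 0
  · subst hx0
    let Q := R ⧸ Ideal.span ({(0 : R)} : Set R)
    let e : Q ≃+* R := (Ideal.quotEquivOfEq (Ideal.span_singleton_eq_bot.2 rfl)).trans (RingEquiv.quotientBot R)
    let _ : Algebra Q R := e.toRingHom.toAlgebra
    have : IsLocalization (⊥ : Submonoid Q) Q := IsLocalization.self (by simp)
    have : IsLocalization (⊥ : Submonoid Q) R := IsLocalization.isLocalization_of_algEquiv (⊥ : Submonoid Q)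
      (AlgEquiv.ofRingEquiv (f := e) fun q => rfl : Q ≃ₐ[Q] R)
    exact isN2_of_isLocalization (⊥ : Submonoid Q) R h2
  refine isN2_of_purelyInseparable fun L _ _ _ _ hfin hpi => ?_
  let K := FractionRing R
  let p := ringExpChar K
  have : ExpChar K p := inferInstance
  let e := IsPurelyInseparable.exponent K L
  let Ω := AlgebraicClosure L
  have : ExpChar Ω p := expChar_of_injective_ringHom (algebraMap K Ω).injective p
  have hq : 0 < p ^ e := pow_pos (expChar_pos K p) e
  obtain ⟨π, hπ⟩ := IsAlgClosed.exists_pow_nat_eq (algebraMap R Ω x) hq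
  let S₀ : Subfield Ω := (algebraMap K Ω).fieldRange.comap (iterateFrobenius Ω p e)
  let S : IntermediateField K Ω := S₀.toIntermediateField fun k => by
    show iterateFrobenius Ω p e (algebraMap K Ω k) ∈ (algebraMap K Ω).fieldRange
    rw [iterateFrobenius_def, ← map_pow]; exact ⟨_, rfl⟩
  let b := Module.finBasis K L
  let F := IntermediateField.adjoin K (insert π (Set.range fun i => algebraMap L Ω (b i)))
  have hFS : F ≤ S := by
    rw [IntermediateField.adjoin_le_iff]
    intro y hy
    show iterateFrobenius Ω p e y ∈ (algebraMap K Ω).fieldRange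
    rw [iterateFrobenius_def]
    rcases hy with rfl | ⟨i, rfl⟩
    · exact ⟨algebraMap R K x, by rw [hπ, ← IsScalarTower.algebraMap_apply]⟩
    · obtain ⟨k, hk⟩ := IsPurelyInseparable.exponent_def' K p (b i)
      exact ⟨k, by rw [← map_pow, ← hk, ← IsScalarTower.algebraMap_apply]⟩
  have : FiniteDimensional K F := by
    have : Finite (insert π (Set.range fun i => algebraMap L Ω (b i)) : Set Ω) :=
      ((Set.finite_range _).insert _).to_subtype
    refine IntermediateField.finiteDimensional_adjoin fun y hy => ?_
    rcases hy with rfl | ⟨i, rfl⟩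
    · exact IsIntegral.of_pow hq (by
        rw [hπ, IsScalarTower.algebraMap_apply R K Ω]; exact isIntegral_algebraMap)
    · exact (Algebra.IsIntegral.isIntegral (b i)).algebraMap
  have : IsScalarTower R K F := inferInstance
  have hF := finite_integralClosure_of_root x hx0 h2 K F (p ^ e) hq (fun y => by
      obtain ⟨k, hk⟩ := hFS y.2
      rw [iterateFrobenius_def] at hk
      exact ⟨k, Subtype.ext hk⟩)
    ⟨π, IntermediateField.subset_adjoin K _ (Set.mem_insert _ _)⟩ (Subtype.ext hπ)
  let ι : L →ₐ[K] F := AlgHom.codRestrict (IsScalarTower.toAlgHom K L Ω) F.toSubalgebra fun y => by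
    rw [← b.sum_repr y, map_sum]
    refine sum_mem fun i _ => ?_
    rw [map_smul]
    exact F.smul_mem (IntermediateField.subset_adjoin K _ (Set.mem_insert_of_mem _ ⟨i, rfl⟩))
  exact finite_integralClosure_of_injective (ι.restrictScalars R) (ι.restrictScalars R).injective

end NormalLib
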