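import Groth.Agent.NormalLib.PowerSeries
import Groth.Agent.NormalLib.Tate
import Groth.Agent.NormalLib.Transfer
import Mathlib.RingTheory.AdicCompletion.Completeness
import Mathlib.RingTheory.MvPowerSeries.Equiv
import Mathlib.RingTheory.MvPowerSeries.NoZeroDivisors

/-! Power series rings over N-2 domains are N-2. -/

set_option autoImplicit false

universe u

open PowerSeries

open scoped nonZeroDivisors

namespace NormalLib

theorem isN2_powerSeries_of_isIntegrallyClosed (R : Type u) [CommRing R] [IsDomain R] [IsNoetherianRing R]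
    [IsIntegrallyClosed R] (h : CAlg.IsN2 R) : CAlg.IsN2 (PowerSeries R) := by
  have := isIntegrallyClosed_powerSeries R
  have : (Ideal.span ({PowerSeries.X} : Set (PowerSeries R))).IsPrime := PowerSeries.span_X_isPrime
  have hker : RingHom.ker (constantCoeff (R := R)) = Ideal.span {PowerSeries.X} := by
    ext f; rw [RingHom.mem_ker, Ideal.mem_span_singleton, X_dvd_iff]
  let e : (PowerSeries R ⧸ Ideal.span ({PowerSeries.X} : Set (PowerSeries R))) ≃+* R :=
    (Ideal.quotEquivOfEq hker.symm).trans
      (RingHom.quotientKerEquivOfSurjective fun r => ⟨C r, constantCoeff_C r⟩)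
  exact isN2_of_complete_of_quotient_isN2 PowerSeries.X (isN2_of_ringEquiv e.symm h)

theorem isN2_powerSeries (R : Type u) [CommRing R] [IsDomain R] [IsNoetherianRing R]
    (h : CAlg.IsN2 R) : CAlg.IsN2 (PowerSeries R) := by
  classical
  let K := FractionRing R
  let R' := integralClosure R K
  have : Module.Finite R R' := finite_integralClosure_self h
  have : IsNoetherianRing R' :=
    isNoetherianRing_iff.2 (isNoetherian_of_tower R (isNoetherian_of_isNoetherianRing_of_finite R R'))
  have hinj : Function.Injective (algebraMap R R') := fun a b hab =>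
    IsFractionRing.injective R K (congrArg Subtype.val hab)
  have : IsIntegrallyClosed R' := integralClosure.isIntegrallyClosedOfFiniteExtension K
  have hR' : CAlg.IsN2 R' := isN2_of_finite_injective hinj h
  obtain ⟨s, hs⟩ := (inferInstance : Module.Finite R R').fg_top
  have : Module.Finite (PowerSeries R) (PowerSeries R') := by
    refine ⟨⟨s.image fun b => C b, eq_top_iff.2 fun f _ => ?_⟩⟩
    choose l hl using fun k => Submodule.mem_span_finset.1 (show coeff k f ∈ Submodule.span R (s : Set R') from
      hs ▸ Submodule.mem_top)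
    have hf : f = ∑ b ∈ s, (mk fun k => l k b : PowerSeries R) • C b := by
      refine PowerSeries.ext fun k => ?_
      rw [map_sum]
      rw [← (hl k).2]
      refine Finset.sum_congr rfl fun b _ => ?_
      rw [Algebra.smul_def, Algebra.smul_def, algebraMap_apply'', coeff_mul_C, coeff_map, coeff_mk]
    rw [hf]
    exact Submodule.sum_mem _ fun b hb => Submodule.smul_mem _ _
      (Submodule.subset_span (Finset.mem_coe.2 (Finset.mem_image_of_mem _ hb)))
  exact isN2_of_finite_injective_descent (R := PowerSeries R) (S := PowerSeries R') (map_injective _ hinj)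
    (isN2_powerSeries_of_isIntegrallyClosed R' hR')

theorem mvPowerSeries_isN2 {A : Type u} [CommRing A] [IsDomain A] [IsNoetherianRing A] [IsIntegrallyClosed A]
    (hA : CAlg.IsN2 A) : ∀ (r : ℕ) [IsDomain (MvPowerSeries (Fin r) A)],
      IsIntegrallyClosed (MvPowerSeries (Fin r) A) ∧ CAlg.IsN2 (MvPowerSeries (Fin r) A) := by
  intro r
  induction r with
  | zero =>
    intro _
    exact ⟨IsIntegrallyClosed.of_equiv (MvPowerSeries.isEmptyEquiv (σ := Fin 0) (R := A)).toRingEquiv.symm,
      isN2_of_ringEquiv (MvPowerSeries.isEmptyEquiv (σ := Fin 0) (R := A)).toRingEquiv.symm hA⟩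
  | succ r ih =>
    intro _
    have : IsDomain (MvPowerSeries (Fin r) A) := NoZeroDivisors.to_isDomain _
    obtain ⟨_, h2⟩ := ih
    have := isIntegrallyClosed_powerSeries (MvPowerSeries (Fin r) A)
    exact ⟨IsIntegrallyClosed.of_equiv (MvPowerSeries.finSuccEquiv A r).toRingEquiv.symm,
      isN2_of_ringEquiv (MvPowerSeries.finSuccEquiv A r).toRingEquiv.symm
        (isN2_powerSeries_of_isIntegrallyClosed _ h2)⟩

end NormalLib
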