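import Groth.Agent.NormalLib.Hypersurface
import Groth.Agent.NormalLib.Transfer
import Mathlib.LinearAlgebra.TensorProduct.RightExactness
import Mathlib.RingTheory.TensorProduct.Pi
import Mathlib.RingTheory.DiscreteValuationRing.TFAE
import Mathlib.RingTheory.Ideal.GoingUp
import Mathlib.RingTheory.Ideal.MinimalPrime.Noetherian

/-! Finite algebras over local Nagata rings stay reduced after tensoring with a flat algebra. -/

set_option autoImplicit false

universe u

open IsLocalRing
open scoped TensorProduct

namespace NormalLib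

/-- A normal Noetherian domain is a DVR at the associated primes of a principal ideal. -/
theorem maximalIdeal_isPrincipal_of_mem_associatedPrimes {C : Type u} [CommRing C] [IsDomain C] [IsNoetherianRing C]
    [IsIntegrallyClosed C] {a : C} (ha : a ≠ 0) {P : Ideal C} [P.IsPrime]
    (hP : P ∈ associatedPrimes C (C ⧸ Ideal.span {a})) :
    (maximalIdeal (Localization.AtPrime P)).IsPrincipal := by
  have : IsDomain (Localization.AtPrime P) := IsLocalization.isDomain_localization P.primeCompl_le_nonZeroDivisors
  have : IsIntegrallyClosed (Localization.AtPrime P) :=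
    isIntegrallyClosed_of_isLocalization _ P.primeCompl P.primeCompl_le_nonZeroDivisors
  have h1 : ringKrullDim (Localization.AtPrime P) = 1 := by
    rw [IsLocalization.AtPrime.ringKrullDim_eq_height P, height_eq_one_of_mem_associatedPrimes ha hP]; rfl
  have : Ring.KrullDimLE 1 (Localization.AtPrime P) := Ring.krullDimLE_iff.2 h1.le
  have h := (tfae_of_isNoetherianRing_of_isLocalRing_of_isDomain (Localization.AtPrime P)).out 3 4
  refine h.1 ⟨inferInstance, fun Q hQ hQp => ?_⟩
  exact IsLocalRing.eq_maximalIdeal (Ring.krullDimLE_one_iff_of_noZeroDivisors.1 inferInstance Q hQ hQp)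

variable {A : Type u} [CommRing A] (B : Type u) [CommRing B] [Algebra A B]

theorem mem_jacobson_tensor {C : Type u} [CommRing C] [Algebra A C] [Module.Finite A C] {b : B}
    (hb : b ∈ (⊥ : Ideal B).jacobson) : (1 : C) ⊗ₜ[A] b ∈ (⊥ : Ideal (C ⊗[A] B)).jacobson := by
  let e : B ⊗[A] C ≃+* C ⊗[A] B := (Algebra.TensorProduct.comm A B C).toRingEquiv
  let f : B →+* C ⊗[A] B := e.toRingHom.comp (algebraMap B (B ⊗[A] C))
  have hf : f.IsIntegral := by
    have h0 : (algebraMap B (B ⊗[A] C)).IsIntegral :=
      algebraMap_isIntegral_iff.2 (Algebra.IsIntegral.of_finite B (B ⊗[A] C))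
    exact h0.trans _ _ (RingHom.isIntegral_of_surjective _ e.surjective)
  simp only [Ideal.jacobson, Submodule.mem_sInf, Set.mem_setOf_eq, bot_le, true_and] at hb ⊢
  intro M hM
  have hfb : f b = (1 : C) ⊗ₜ[A] b := by
    show Algebra.TensorProduct.comm A B C (b ⊗ₜ 1) = _
    rw [Algebra.TensorProduct.comm_tmul]
  rw [← hfb]
  exact hb _ (Ideal.isMaximal_comap_of_isIntegral_of_isMaximal' f hf M)

theorem isNoetherianRing_tensor [IsNoetherianRing B] (C : Type u) [CommRing C] [Algebra A C] [Module.Finite A C] :
    IsNoetherianRing (C ⊗[A] B) :=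
  have : IsNoetherianRing (B ⊗[A] C) :=
    isNoetherianRing_iff.2 (isNoetherian_of_tower B (isNoetherian_of_isNoetherianRing_of_finite B (B ⊗[A] C)))
  isNoetherianRing_of_ringEquiv (B ⊗[A] C) (Algebra.TensorProduct.comm A B C).toRingEquiv

theorem isReduced_tensor_of_injective [Module.Flat A B] {C C' : Type u} [CommRing C] [Algebra A C] [CommRing C']
    [Algebra A C'] (φ : C →ₐ[A] C') (hφ : Function.Injective φ) [IsReduced (C' ⊗[A] B)] :
    IsReduced (C ⊗[A] B) :=
  isReduced_of_injective (Algebra.TensorProduct.map φ (AlgHom.id A B))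
    (Module.Flat.rTensor_preserves_injective_linearMap φ.toLinearMap hφ)

theorem isReduced_quotient_tensor {C : Type u} [CommRing C] [Algebra A C] (P : Ideal C)
    [IsReduced ((C ⧸ P) ⊗[A] B)] :
    IsReduced ((C ⊗[A] B) ⧸ P.map (algebraMap C (C ⊗[A] B))) := by
  let g := Algebra.TensorProduct.map (Ideal.Quotient.mkₐ A P) (AlgHom.id A B)
  have hker : RingHom.ker g.toRingHom = P.map (algebraMap C (C ⊗[A] B)) := by
    rw [show RingHom.ker g.toRingHom = RingHom.ker g from rfl, Algebra.TensorProduct.rTensor_ker _
      (Ideal.Quotient.mkₐ_surjective A P)]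
    rw [show RingHom.ker (Ideal.Quotient.mkₐ A P) = P from Ideal.mk_ker]
    rfl
  exact isReduced_of_injective
    (g.toRingHom.kerLift.comp (Ideal.quotEquivOfEq hker.symm).toRingHom)
    ((RingHom.kerLift_injective _).comp (Ideal.quotEquivOfEq hker.symm).injective)

/-- Finite domains whose supporting primes have N-2 quotients, at a maximal ideal of the base. -/
theorem isReduced_tensor_of_finite_domain [IsNoetherianRing A] (m : Ideal A) [m.IsMaximal] [Module.Flat A B]
    [IsNoetherianRing B] (hB : m.map (algebraMap A B) ≤ (⊥ : Ideal B).jacobson)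
    (hsurj : ∀ b : B, ∃ a : A, b - algebraMap A B a ∈ m.map (algebraMap A B))
    (C : Type u) [CommRing C] [IsDomain C] [Algebra A C] [Module.Finite A C]
    (hA : ∀ (p : Ideal A) [p.IsPrime], RingHom.ker (algebraMap A C) ≤ p → CAlg.IsN2 (A ⧸ p)) :
    IsReduced (C ⊗[A] B) := by
  suffices ∀ p : Ideal A, ∀ (C : Type u) [CommRing C] [IsDomain C] [Algebra A C] [Module.Finite A C],
      (∀ (p' : Ideal A) [p'.IsPrime], p ≤ p' → CAlg.IsN2 (A ⧸ p')) →
      RingHom.ker (algebraMap A C) = p → IsReduced (C ⊗[A] B) from this _ C hA rfl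
  intro p
  induction p using WellFoundedGT.induction with
  | ind p ih =>
  intro C₀ _ _ _ _ hA hp₀
  have : p.IsPrime := hp₀ ▸ RingHom.ker_isPrime _
  let _ : Algebra (A ⧸ p) C₀ := (Ideal.Quotient.lift p (algebraMap A C₀) fun a ha => by
    rwa [← hp₀, RingHom.mem_ker] at ha).toAlgebra
  have : IsScalarTower A (A ⧸ p) C₀ := IsScalarTower.of_algebraMap_eq fun a => rfl
  have : Module.Finite (A ⧸ p) C₀ := Module.Finite.of_restrictScalars_finite A _ _
  have hinj : Function.Injective (algebraMap (A ⧸ p) C₀) := by
    rw [injective_iff_map_eq_zero]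
    intro a ha
    obtain ⟨a, rfl⟩ := Ideal.Quotient.mk_surjective a
    exact Ideal.Quotient.eq_zero_iff_mem.2 (hp₀ ▸ (RingHom.mem_ker (f := algebraMap A C₀)).2 ha)
  have hN1 : CAlg.IsN1 C₀ := finite_integralClosure_self (isN2_of_finite_injective hinj (hA p le_rfl))
  let C := integralClosure C₀ (FractionRing C₀)
  have : Module.Finite C₀ C := hN1
  have : IsIntegrallyClosed C := integralClosure.isIntegrallyClosedOfFiniteExtension (FractionRing C₀)
  have : Module.Finite A C := Module.Finite.trans C₀ C
  have hC₀C : Function.Injective (algebraMap C₀ C) := fun a b hab =>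
    IsFractionRing.injective C₀ (FractionRing C₀) (congrArg Subtype.val hab)
  have hp : RingHom.ker (algebraMap A C) = p := by
    rw [IsScalarTower.algebraMap_eq A C₀ C, RingHom.ker_comp_of_injective _ hC₀C, hp₀]
  suffices IsReduced (C ⊗[A] B) from
    isReduced_tensor_of_injective B (IsScalarTower.toAlgHom A C₀ C) hC₀C
  have : IsNoetherianRing C :=
    isNoetherianRing_iff.2 (isNoetherian_of_tower A (isNoetherian_of_isNoetherianRing_of_finite A C))
  by_cases hm : m ≤ p
  · have hpm : p = m :=
      ((‹m.IsMaximal›).eq_of_le (Ideal.IsPrime.ne_top ‹_›) hm).symm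
    have hfield : IsField C := by
      have h0 : (RingHom.ker (algebraMap A C)).IsMaximal := by rw [hp, hpm]; infer_instance
      have hmc : ((⊥ : Ideal C).comap (algebraMap A C)).IsMaximal := by rwa [← RingHom.ker_eq_comap_bot]
      have : (⊥ : Ideal C).IsMaximal := by
        have := Algebra.IsIntegral.of_finite A C
        exact Ideal.isMaximal_of_isIntegral_of_isMaximal_comap (R := A) ⊥ hmc
      exact (Ring.isField_iff_isSimpleOrder_ideal).2 (isSimpleOrder_iff_isCoatom_bot.2 this.out)
    let inc : C →+* C ⊗[A] B := (Algebra.TensorProduct.includeLeft : C →ₐ[A] C ⊗[A] B).toRingHom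
    have hsur : Function.Surjective inc := by
      intro t
      induction t using TensorProduct.induction_on with
      | zero => exact ⟨0, map_zero _⟩
      | add x y hx hy =>
        obtain ⟨x, rfl⟩ := hx
        obtain ⟨y, rfl⟩ := hy
        exact ⟨x + y, map_add _ _ _⟩
      | tmul c b =>
        obtain ⟨a, ha⟩ := hsurj b
        have hzero : ∀ y ∈ m.map (algebraMap A B), c ⊗ₜ[A] y = 0 := by
          intro y hy
          rw [← Submodule.restrictScalars_mem A (m.map (algebraMap A B)), ← Ideal.smul_top_eq_map] at hy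
          refine Submodule.smul_induction_on hy (fun r hr z _ => ?_) fun z w hz hw => ?_
          · rw [← TensorProduct.smul_tmul, Algebra.smul_def,
              show algebraMap A C r = 0 from (RingHom.mem_ker (f := algebraMap A C)).1 (hp.symm ▸ hm hr),
              zero_mul, TensorProduct.zero_tmul]
          · rw [TensorProduct.tmul_add, hz, hw, add_zero]
        refine ⟨a • c, ?_⟩
        show (a • c) ⊗ₜ[A] (1 : B) = c ⊗ₜ b
        rw [TensorProduct.smul_tmul, ← Algebra.algebraMap_eq_smul_one, eq_comm, ← sub_eq_zero, ← TensorProduct.tmul_sub]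
        exact hzero _ ha
    rcases subsingleton_or_nontrivial (C ⊗[A] B) with h | h
    · exact ⟨fun x _ => Subsingleton.elim _ _⟩
    · let _ : Field C := hfield.toField
      exact isReduced_of_injective (RingEquiv.ofBijective inc ⟨inc.injective, hsur⟩).symm.toRingHom
        (RingEquiv.injective _)
  · obtain ⟨x, hxm, hxp⟩ := SetLike.not_le_iff_exists.1 hm
    have hx : algebraMap A C x ≠ 0 := fun h => hxp (hp ▸ h)
    have := isNoetherianRing_tensor (A := A) B C
    refine isReduced_of_hypersurface (C ⊗[A] B) (algebraMap A C x) hx ?_ fun P hP _ => ?_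
    · rw [← IsScalarTower.algebraMap_apply A C (C ⊗[A] B),
        Algebra.TensorProduct.algebraMap_apply, Algebra.algebraMap_eq_smul_one, TensorProduct.smul_tmul,
        ← Algebra.algebraMap_eq_smul_one]
      exact mem_jacobson_tensor B (hB (Ideal.mem_map_of_mem _ hxm))
    · refine ⟨maximalIdeal_isPrincipal_of_mem_associatedPrimes hx hP, ?_⟩
      have hlt : p < RingHom.ker (algebraMap A (C ⧸ P)) := by
        refine SetLike.lt_iff_le_and_exists.2 ⟨fun a ha => ?_, x, ?_, hxp⟩
        · rw [← hp, RingHom.mem_ker] at ha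
          rw [RingHom.mem_ker, IsScalarTower.algebraMap_apply A C (C ⧸ P), ha, map_zero]
        · rw [RingHom.mem_ker, IsScalarTower.algebraMap_apply A C (C ⧸ P), Ideal.Quotient.algebraMap_eq,
            Ideal.Quotient.eq_zero_iff_mem]
          exact mem_associatedPrimes_quotient_of_le hP
      have : Module.Finite A (C ⧸ P) :=
        Module.Finite.of_surjective (Ideal.Quotient.mkₐ A P).toLinearMap Ideal.Quotient.mk_surjective
      have := ih _ hlt (C ⧸ P) (fun p' _ h => hA p' (hlt.le.trans h)) rfl
      exact isReduced_quotient_tensor B P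

/-- Reduced finite algebras over local Nagata rings. -/
theorem isReduced_tensor_of_finite (m : Ideal A) [m.IsMaximal] (hA : CAlg.IsNagata A) [Module.Flat A B]
    [IsNoetherianRing B] (hB : m.map (algebraMap A B) ≤ (⊥ : Ideal B).jacobson)
    (hsurj : ∀ b : B, ∃ a : A, b - algebraMap A B a ∈ m.map (algebraMap A B))
    (C : Type u) [CommRing C] [IsReduced C] [Algebra A C] [Module.Finite A C] : IsReduced (C ⊗[A] B) := by
  classical
  have := hA.1
  have : IsNoetherianRing C :=
    isNoetherianRing_iff.2 (isNoetherian_of_tower A (isNoetherian_of_isNoetherianRing_of_finite A C))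
  let ι := {q : Ideal C // q ∈ minimalPrimes C}
  have : Finite ι := (minimalPrimes.finite_of_isNoetherianRing C).to_subtype
  have : Fintype ι := Fintype.ofFinite ι
  let φ : C →ₐ[A] (q : ι) → C ⧸ q.1 := AlgHom.pi fun q => Ideal.Quotient.mkₐ A q.1
  have hφ : Function.Injective φ := by
    rw [injective_iff_map_eq_zero]
    intro c hc
    have : c ∈ nilradical C := by
      rw [nilradical, Ideal.radical_eq_sInf, Submodule.mem_sInf]
      rintro P ⟨-, hP⟩
      obtain ⟨q, hq, hqP⟩ := Ideal.exists_minimalPrimes_le (I := ⊥) (J := P) bot_le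
      exact hqP (Ideal.Quotient.eq_zero_iff_mem.1 (congrFun hc ⟨q, hq⟩))
    simpa [nilradical_eq_zero] using this
  have hq : ∀ q : ι, IsReduced ((C ⧸ q.1) ⊗[A] B) := fun q => by
    have := q.2.1.1
    have : Module.Finite A (C ⧸ q.1) :=
      Module.Finite.of_surjective (Ideal.Quotient.mkₐ A q.1).toLinearMap Ideal.Quotient.mk_surjective
    exact isReduced_tensor_of_finite_domain B m hB hsurj _ fun p _ _ => hA.2 p
  have : IsReduced (((q : ι) → C ⧸ q.1) ⊗[A] B) := by
    have : ∀ q : ι, IsReduced (B ⊗[A] (C ⧸ q.1)) := fun q =>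
      isReduced_of_injective (Algebra.TensorProduct.comm A B (C ⧸ q.1)) (Algebra.TensorProduct.comm A B (C ⧸ q.1)).injective
    exact isReduced_of_injective
      ((Algebra.TensorProduct.piRight A A B fun q : ι => C ⧸ q.1).toRingEquiv.toRingHom.comp
        (Algebra.TensorProduct.comm A ((q : ι) → C ⧸ q.1) B).toRingEquiv.toRingHom)
      ((Algebra.TensorProduct.piRight A A B fun q : ι => C ⧸ q.1).injective.comp
        (Algebra.TensorProduct.comm A ((q : ι) → C ⧸ q.1) B).injective)
  exact isReduced_tensor_of_injective B φ hφ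

end NormalLib
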